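import Cfsg.Agent.Lib.LnS.Core
import Cfsg.Agent.Lib.Perm.GeomPSL
import Cfsg.Agent.Lib.Classical.SmallIso

/-! Double transitivity on the conjugates of `A` (plans/SYL2.md). -/

set_option autoImplicit false
set_option linter.unusedSectionVars false

namespace CfsgLib.LnS
open Subgroup Matrix Cfsg CfsgLib.Tech CfsgLib.PComp
open scoped commutatorElement CfsgLib.BG

section Count
open CfsgLib.Perm
variable {G X : Type*} [Group G] [MulAction G X] [Finite G] [Finite X] {N : X → Subgroup G}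
  {F : Type*} [Field F] [Finite F] {n : ℕ} {v : X → Fin n → F}

/-- the elements of `N x` fixing `y` correspond to the functionals vanishing on `v x` and `v y` -/
theorem card_stab (c : BlkCoord N F v) (h : ONan N) (x y : X) :
    Nat.card ↥(N x ⊓ MulAction.stabilizer G y) =
      Nat.card {φ : Module.Dual F (Fin n → F) // φ (v x) = 0 ∧ φ (v y) = 0} := by
  let R : G → Module.Dual F (Fin n → F) → Prop :=
    fun g φ => ∀ p, ∃ a : F, a • v (g • p) = v p + φ (v p) • v x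
  have hne : ∀ {φ : Module.Dual F (Fin n → F)}, φ (v x) = 0 → ∀ p, v p + φ (v p) • v x ≠ 0 :=
    fun {φ} hφ p e => by
      by_cases hp : x = p
      · rw [← hp, hφ, zero_smul, add_zero] at e
        exact c.ne x e
      · exact one_ne_zero (c.indep2 hp (a := φ (v p)) (b := 1) (by rw [one_smul, add_comm, e])).2
  have h1 : ∀ {g φ}, R g φ → φ (v x) = 0 → (g • y = y ↔ φ (v y) = 0) := fun {g φ} hR hφ => by
    obtain ⟨a, ha⟩ := hR y
    refine ⟨fun e => ?_, fun e => c.inj a (by rw [ha, e, zero_smul, add_zero])⟩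
    by_cases hy : x = y
    · exact hy ▸ hφ
    · exact (c.indep2 hy (a := φ (v y)) (b := 1 - a) (by
        rw [e] at ha; rw [sub_smul, ha, one_smul]; abel)).1
  have h2 : ∀ {g g' φ}, R g φ → R g' φ → φ (v x) = 0 → g = g' := fun {g g' φ} hR hR' hφ => by
    refine (inv_mul_eq_one.1 (h.faith _ fun p => ?_))
    obtain ⟨a, ha⟩ := hR p
    obtain ⟨b, hb⟩ := hR' p
    have ha0 : a ≠ 0 := fun e => hne hφ p (by rw [← ha, e, zero_smul])
    rw [mul_smul, c.inj (p := g' • p) (q := g • p) (a⁻¹ * b) (by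
      rw [mul_smul, hb, ← ha, smul_smul, inv_mul_cancel₀ ha0, one_smul]), inv_smul_smul]
  have h3 : ∀ {g φ φ'}, R g φ → R g φ' → φ (v x) = 0 → φ' (v x) = 0 → φ = φ' :=
    fun {g φ φ'} hR hR' hφ hφ' => LinearMap.ext fun u => by
      obtain ⟨p, d, rfl⟩ := c.surj' x u
      rw [map_smul, map_smul]
      congr 1
      by_cases hp : x = p
      · rw [← hp, hφ, hφ']
      obtain ⟨a, ha⟩ := hR p
      obtain ⟨b, hb⟩ := hR' p
      have ha0 : a ≠ 0 := fun e => hne hφ p (by rw [← ha, e, zero_smul])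
      obtain ⟨e1, e2⟩ := c.indep2 hp (a := b * φ (v p) - a * φ' (v p)) (b := b - a) (by
        have : b • (v p + φ (v p) • v x) = a • (v p + φ' (v p) • v x) := by rw [← ha, ← hb, smul_comm]
        rw [smul_add, smul_add, smul_smul, smul_smul] at this
        rw [sub_smul, sub_smul, sub_add_sub_comm, add_comm, this, add_comm, sub_self])
      rw [sub_eq_zero] at e1 e2
      exact mul_left_cancel₀ ha0 (e2 ▸ e1)
  have : Finite (Module.Dual F (Fin n → F)) := DFunLike.finite _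
  refine le_antisymm ?_ ?_
  · choose f hf using fun g : ↥(N x ⊓ MulAction.stabilizer G y) => c.exists_dual h g.2.1
    exact Nat.card_le_card_of_injective (fun g => ⟨f g, (hf g).1, (h1 (hf g).2 (hf g).1).1 g.2.2⟩)
      fun g g' e => Subtype.ext (h2 (hf g).2 ((show f g' = f g from (congrArg Subtype.val e).symm) ▸ (hf g').2) (hf g).1)
  · choose f hf using fun φ : {φ : Module.Dual F (Fin n → F) // φ (v x) = 0 ∧ φ (v y) = 0} =>
      c.exists_of_dual h φ.2.1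
    exact Nat.card_le_card_of_injective (β := ↥(N x ⊓ MulAction.stabilizer G y))
      (fun φ => ⟨f φ, (hf φ).1, (h1 (hf φ).2 φ.2.1).2 φ.2.2⟩)
      fun φ φ' e => Subtype.ext (h3 (hf φ).2 ((show f φ' = f φ from (congrArg Subtype.val e).symm) ▸ (hf φ').2) φ.2.1 φ'.2.1)

theorem card_ker_mul {U : Type*} [AddCommGroup U] [Module F U] (L : Module.Dual F (Fin n → F) →ₗ[F] U)
    (hL : Function.Surjective L) : Nat.card (LinearMap.ker L) * Nat.card U = Nat.card F ^ n := by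
  rw [← Nat.card_congr (L.quotKerEquivOfSurjective hL).toEquiv, ← Submodule.card_eq_card_quotient_mul_card,
    Module.natCard_eq_pow_finrank (K := F), Subspace.dual_finrank_eq, Module.finrank_fin_fun]

theorem card_N (c : BlkCoord N F v) (h : ONan N) (x : X) : Nat.card (N x) * Nat.card F = Nat.card F ^ n := by
  rw [← card_ker_mul (Module.Dual.eval F _ (v x)) fun a => by
    obtain ⟨φ, hφ⟩ := Module.Projective.exists_dual_eq_one F (c.ne x)
    exact ⟨a • φ, by simp [hφ]⟩, ← inf_eq_left.2 (show N x ≤ MulAction.stabilizer G x from fun _ => h.fix),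
    card_stab c h]
  congr 1
  exact Nat.card_congr (Equiv.subtypeEquivRight fun φ => by simp)

theorem card_N2 (c : BlkCoord N F v) (h : ONan N) {x y : X} (hxy : x ≠ y) :
    Nat.card ↥(N x ⊓ MulAction.stabilizer G y) * (Nat.card F * Nat.card F) = Nat.card F ^ n := by
  rw [← Nat.card_prod, ← card_ker_mul ((Module.Dual.eval F _ (v x)).prod (Module.Dual.eval F _ (v y))) ?_,
    card_stab c h]
  · congr 1
    exact Nat.card_congr (Equiv.subtypeEquivRight fun φ => by simp)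
  · intro a
    obtain ⟨φ, hφ⟩ := LinearMap.dualMap_surjective_of_injective
      (f := (LinearMap.toSpanSingleton F _ (v x)).coprod (LinearMap.toSpanSingleton F _ (v y)))
      ((injective_iff_map_eq_zero _).2 fun b e => Prod.ext (c.indep2 hxy e).1 (c.indep2 hxy e).2)
      ((LinearMap.toSpanSingleton F _ a.1).coprod (LinearMap.toSpanSingleton F _ a.2))
    exact ⟨φ, Prod.ext (by simpa using LinearMap.congr_fun hφ (1, 0))
      (by simpa using LinearMap.congr_fun hφ (0, 1))⟩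

end Count

namespace Fr

universe u
variable {G : Type u} [Group G] [Finite G] {F : Type*} [Field F] {m : ℕ} {P P' P'' : Fr G F m}
  {s t u v w x y z n : G} {R T U X H M : Subgroup G}

theorem Z_ne_bot (P : Fr G F m) : P.Z ≠ ⊥ := by
  obtain ⟨z, hz, -, -, h1, -⟩ := P.exists_two_Z
  exact fun e => h1 (mem_bot.1 (e ▸ hz))

theorem ne_bot_of (hx : x ∈ X) (h1 : x ≠ 1) : X ≠ ⊥ := fun e => h1 (mem_bot.1 (e ▸ hx))

theorem exists_of_ne_bot (h : X ≠ ⊥) : ∃ x ∈ X, x ≠ 1 :=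
  (X.bot_or_exists_ne_one).resolve_left h

theorem cj_A_of (P : Fr G F m) (h : n ∈ 𝒩(P.A)) : (P.cj n).A = P.A := by
  rw [cj_A, mem_normalizer_iff_cj.1 h]

theorem B_cZ (P : Fr G F m) : P.B ≤ 𝒞(P.Z) := P.B_le_S.trans P.S_cZ

section
variable [IsSimpleGroup G]

theorem A_eq_of (hc : P.Cj P') (h : P'.A ⊓ P.A ≠ ⊥) : P'.A = P.A := by
  obtain ⟨k, rfl⟩ := hc
  exact P.cj_A_of (ti_A (by rwa [cj_A] at h))

theorem B_eq_of (hc : P.Cj P') (h : P'.B ⊓ P.B ≠ ⊥) : P'.B = P.B := by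
  simpa only [dual_A] using A_eq_of hc.dual (by simpa only [dual_A] using h)

theorem exists_fr_mem (hx : x ∈ P.A) (h1 : x ≠ 1) : ∃ P', P.Cj P' ∧ P'.A = P.A ∧ x ∈ P'.Z := by
  obtain ⟨k, hk, e⟩ := exists_A (full hx h1) hx
  exact ⟨P.cj k⁻¹, P.cj_cj' _, P.cj_A_of (inv_mem hk), by rwa [cj_Z, mem_cj, inv_inv]⟩

/-- a common frame -/
theorem common (hc : P.Cj P') (hx : x ∈ P.A) (hx' : x ∈ P'.B) (h1 : x ≠ 1) :
    ∃ P'', P.Cj P'' ∧ P''.A = P.A ∧ P''.B = P'.B ∧ x ∈ P''.Z := by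
  obtain ⟨P₁, c1, e, hz⟩ := exists_fr_mem hx h1
  exact ⟨P₁, c1, e, B_eq_of (hc.symm.trans c1) (ne_bot_of ⟨P₁.Z_le_B hz, hx'⟩ h1), hz⟩

end

/-- a conjugate of `A` normalized by a non-identity element `x` of `A` meets the `B` of `x` -/
theorem adj [IsSimpleGroup G] (hz : z ∈ P.Z) (h1 : z ≠ 1) (hc : P.Cj P') (h : z ∈ 𝒩(P'.A)) :
    P'.A ⊓ P.B ≠ ⊥ := by
  obtain ⟨k, hk, hk'⟩ := (P'.syl.of_le P'.S_nA le_top).exists_conj_mem h
    (isPGroup_zpowers_of_mem P.two_S (P.Z_le_S hz))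
  have c1 := hc.trans (P'.cj_cj' k⁻¹)
  have e1 := P'.cj_A_of (inv_mem hk)
  have hz1 : z ∈ (P'.cj k⁻¹).S := by rwa [cj_S, mem_cj, inv_inv]
  generalize P'.cj k⁻¹ = P₁ at c1 e1 hz1
  have h2 : P₁.Z ≤ 𝒞(P.Z) := P.cent_of_two (P₁.two_S.to_le P₁.Z_le_S) fun y hy =>
    P.nQ_nZ (cent_le hz h1 (mem_centralizer_singleton_iff.2 (P₁.S_cZ hz1 y hy)))
  obtain ⟨c, hc1, hc2⟩ := P₁.exists_fr (P.two_S.to_le P.Z_le_S) (le_centralizer_iff.1 h2)
  obtain ⟨y, hy, hy1⟩ := exists_of_ne_bot P₁.Z_ne_bot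
  have e2 := (P₁.cj_A_of (cent_le_A (P₁.Z_le_A hy) hy1
    (mem_centralizer_singleton_iff.2 (hc1 y hy).symm))).trans e1
  have c2 := c1.trans (P₁.cj_cj' c)
  generalize P₁.cj c = P₂ at hc2 e2 c2
  have key : ∀ P₃, P.Cj P₃ → P₃.A = P'.A → P.Z ≤ P₃.B → P'.A ⊓ P.B ≠ ⊥ := fun P₃ c3 e3 h3 => by
    rw [← e3, ← B_eq_of c3 (ne_bot_of ⟨h3 hz, P.Z_le_B hz⟩ h1)]
    exact P₃.Z_ne_bot
  by_cases hq : P.Z ⊓ P₂.Q = ⊥
  · obtain ⟨P₃, c3, e3, -, h3⟩ := std c2.symm hc2 hq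
    exact key P₃ (c2.trans c3) (e3.trans e2) h3
  · rcases le_or c2.symm hc2 hq with h3 | h3
    · exact ne_bot_of ⟨e2 ▸ h3 hz, P.Z_le_B hz⟩ h1
    · exact key P₂ c2 e2 h3

/-- some conjugate of `B` meets both -/
def Rel (P : Fr G F m) (X Y : Subgroup G) : Prop := ∃ P', P.Cj P' ∧ X ⊓ P'.B ≠ ⊥ ∧ Y ⊓ P'.B ≠ ⊥

theorem Rel.symm {Y : Subgroup G} (h : P.Rel X Y) : P.Rel Y X := by
  obtain ⟨P', c, h1, h2⟩ := h
  exact ⟨P', c, h2, h1⟩

theorem Rel.cj {Y : Subgroup G} (h : P.Rel X Y) (g : G) : P.Rel (Tech.cj g X) (Tech.cj g Y) := by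
  obtain ⟨P', c, h1, h2⟩ := h
  refine ⟨P'.cj g, c.trans (P'.cj_cj' g), ?_, ?_⟩ <;> rwa [cj_B, ← cj_inf, Ne, cj_eq_bot_iff]

theorem Rel.idx [IsSimpleGroup G] {P₀ P₁ : Fr G F m} (c0 : P.Cj P₀) (h : P.Rel P₀.A P₁.A) :
    𝒩(P₁.A).relIndex P₀.A ≤ Nat.card F := by
  obtain ⟨P₃, c3, h0, h1⟩ := h
  obtain ⟨y, hy, hy1⟩ := exists_of_ne_bot h0
  obtain ⟨P₄, -, eA, eB, -⟩ := common (c0.symm.trans c3) hy.1 hy.2 hy1
  obtain ⟨x, hx, hx1⟩ := exists_of_ne_bot h1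
  refine (relIndex_le_of_le_left (cent_le_A hx.1 hx1) FiniteIndex.index_ne_zero).trans ?_
  rw [← eA]
  by_cases hA : x ∈ P₄.A
  · rw [relIndex_eq_one.2 fun u hu => mem_centralizer_singleton_iff.2 (commA hu hA)]
    exact le_trans (by norm_num) P.four
  · exact (relIndex_A (P₄.B_le_Q (eB ▸ hx.2)) hA).le

theorem Rel.trans [IsSimpleGroup G] {P₀ P₁ P₂ : Fr G F m} (c0 : P.Cj P₀) (c1 : P.Cj P₁) (c2 : P.Cj P₂)
    (h1 : P.Rel P₀.A P₁.A) (h2 : P.Rel P₀.A P₂.A) : P.Rel P₁.A P₂.A := by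
  have h3 : 𝒩(P₁.A) ⊓ 𝒩(P₂.A) ⊓ P₀.A ≠ ⊥ := fun e => by
    have h4 := (relIndex_inf_le (H := 𝒩(P₁.A)) (K := 𝒩(P₂.A)) (L := P₀.A)).trans
      (Nat.mul_le_mul (h1.idx c0) (h2.idx c0))
    rw [← inf_relIndex_right, e, relIndex_bot_left, card_A, ← pow_two] at h4
    have := P.two
    have := (Nat.pow_le_pow_iff_right (lt_of_lt_of_le (by norm_num) P.four)).1 h4
    omega
  obtain ⟨z, hz, hz1⟩ := exists_of_ne_bot h3
  obtain ⟨P₅, c5, -, hz5⟩ := exists_fr_mem hz.2 hz1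
  have c6 := (c0.trans c5).symm
  exact ⟨P₅, c0.trans c5, adj hz5 hz1 (c6.trans c1) hz.1.1, adj hz5 hz1 (c6.trans c2) hz.1.2⟩

theorem rel_all [IsSimpleGroup G] (P : Fr G F m) (g : G) : P.Rel P.A (Tech.cj g P.A) := by
  let K : Subgroup G :=
    { carrier := {g | P.Rel P.A (Tech.cj g P.A)}
      one_mem' := ⟨P, Cj.refl P, P.Z_ne_bot, by rw [Tech.cj_one]; exact P.Z_ne_bot⟩
      mul_mem' := fun {a b} ha hb => by
        have h1 := Rel.cj hb a
        rw [← cj_mul, ← cj_A, ← cj_A] at h1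
        have h2 := Rel.trans (P.cj_cj' a) (Cj.refl P) (P.cj_cj' _) (by rw [cj_A]; exact Rel.symm ha) h1
        rwa [cj_A] at h2
      inv_mem' := fun {a} ha => by
        have h1 := Rel.cj ha a⁻¹
        rw [cj_inv_cj] at h1
        exact h1.symm }
  have h : 𝒩(P.A) ⊔ 𝒩(P.B) ≤ K := sup_le
    (fun a ha => ⟨P, Cj.refl P, P.Z_ne_bot, by rw [mem_normalizer_iff_cj.1 ha]; exact P.Z_ne_bot⟩)
    fun a ha => ⟨P, Cj.refl P, P.Z_ne_bot, by
      rw [← mem_normalizer_iff_cj.1 ha, ← cj_inf, Ne, cj_eq_bot_iff]; exact P.Z_ne_bot⟩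
  exact h (P.gen' ▸ mem_top g)

theorem all_adj [IsSimpleGroup G] (hc : P.Cj P') : ∃ n ∈ 𝒩(P.A), Tech.cj n P'.A ⊓ P.B ≠ ⊥ := by
  obtain ⟨g, rfl⟩ := hc
  obtain ⟨P₃, c3, h0, h1⟩ := P.rel_all g
  obtain ⟨y, hy, hy1⟩ := exists_of_ne_bot h0
  obtain ⟨_, ⟨k, rfl⟩, eA, eB, -⟩ := common c3 hy.1 hy.2 hy1
  rw [cj_A, ← mem_normalizer_iff_cj] at eA
  refine ⟨k⁻¹, inv_mem eA, ?_⟩
  rwa [← eB, cj_B, ← cj_cj_inv k (Tech.cj g P.A), ← cj_inf, Ne, cj_eq_bot_iff, ← cj_A] at h1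

/-- a conjugate of `A'` under `N(A)` containing an element of `B ∖ Z` that is central in `S` modulo `Z` -/
theorem exists_std [IsSimpleGroup G] (hc : P.Cj P') (h : P'.A ≠ P.A) : ∃ n ∈ 𝒩(P.A),
    ∃ x ∈ Tech.cj n P'.A, x ∈ P.B ∧ x ∉ P.A ∧ ∀ s ∈ P.S, ⁅x, s⁆ ∈ P.Z := by
  obtain ⟨n, hn, h1⟩ := all_adj hc
  obtain ⟨x, hx, hx1⟩ := exists_of_ne_bot h1
  have hB : x ∈ P.dual.A := by rw [dual_A]; exact hx.2
  obtain ⟨k, hk, h2⟩ := exists_fix_UA (mem_UA.2 ⟨hB, Or.inr (full hB hx1)⟩)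
  rw [dual_Q] at hk
  rw [dual_Z] at h2
  refine ⟨k * n, mul_mem (P.nQ_nA hk) hn, k * x * k⁻¹, by rw [cj_mul, conj_mem_cj]; exact hx.1,
    conj_mem_of_mem_normalizer (P.nQ_nB hk) hx.2, fun hA => h ?_, h2⟩
  have h3 : x ∈ P.A := by simpa [mul_assoc] using conj_mem_of_mem_normalizer' (P.nQ_nA hk) hA
  have h4 := A_eq_of (hc.trans (P'.cj_cj' n)) (ne_bot_of ⟨by rw [cj_A]; exact hx.1, h3⟩ hx1)
  rw [cj_A, ← mem_normalizer_iff_cj.1 hn] at h4
  exact cj_injective n h4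

theorem two_trans [IsSimpleGroup G] (hc : P.Cj P') (hc' : P.Cj P'') (h : P'.A ≠ P.A)
    (h' : P''.A ≠ P.A) : ∃ n ∈ 𝒩(P.A), Tech.cj n P'.A = P''.A := by
  obtain ⟨n, hn, x, hx, hB, hA, hf⟩ := exists_std hc h
  obtain ⟨k, hk, y, hy, hB', hA', hf'⟩ := exists_std hc' h'
  have hx1 : x ≠ 1 := fun e => hA (e ▸ one_mem _)
  have hy1 : y ≠ 1 := fun e => hA' (e ▸ one_mem _)
  have hW : y ∈ P.W x := by
    have := fix_A (P := P.dual) (v := x) (x := y) (by rwa [dual_A]) (by rw [dual_Z]; exact fun e => hA e.1)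
      (by rwa [dual_Z]) (by rwa [dual_A]) (by rwa [dual_Z])
    rwa [P.dual_W (P.B_le_Q hB)] at this
  rw [← cj_A] at hx hy
  have c1 := hc.trans (P'.cj_cj' n)
  obtain ⟨P₃, c3, eA, eB, hz⟩ := common c1.symm hx hB hx1
  have hZ : P₃.Z ≤ P.B := eB ▸ P₃.Z_le_B
  obtain ⟨c, hc1, c', hc2, T, -, hP⟩ := exists_pair (R := ⊥) (c1.trans c3) (fun e => hA (e ▸ hz).1)
    (hZ.trans P.B_cZ) IsPGroup.of_bot bot_le
  obtain ⟨z, hz0, hz1⟩ := exists_of_ne_bot P.Z_ne_bot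
  obtain ⟨eQ, eA', -, eZ⟩ := eq_of_mem (P.cj_cj' c) hz0 ((P.cj_Z_of hc1).symm ▸ hz0) hz1
  have eZ' := P₃.cj_Z_of hc2
  rcases hP.ty1 (ne_bot_of ⟨eZ'.symm ▸ hz, eQ.symm ▸ P.B_le_Q hB⟩ hx1) with h1 | h1
  · exact absurd (eA' ▸ h1.le (eZ'.symm ▸ hz)) hA
  · have h2 := h1.line x (by rwa [dual_Z, eZ']) hx1 y (by
      rwa [(P.cj c).dual_W (eQ.symm ▸ P.B_le_Q hB), W_eq eQ (P.B_le_Q hB)])
    rw [dual_Z, dual_Z, dual_B, eZ, eZ', eA'] at h2
    obtain ⟨w, hw, h3⟩ := h2.resolve_left fun e => hA' e.1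
    have h4 := A_eq_of (c1.symm.trans ((hc'.trans (P''.cj_cj' k)).trans ((P''.cj k).cj_cj' w)))
      (ne_bot_of (x := w * y * w⁻¹) ⟨by rw [cj_A]; exact conj_mem_cj.2 hy, eA ▸ P₃.Z_le_A h3⟩ (by simpa using hy1))
    rw [cj_A, cj_A, cj_A, ← cj_mul] at h4
    refine ⟨(w * k)⁻¹ * n, mul_mem (inv_mem (mul_mem (le_normalizer hw) hk)) hn, ?_⟩
    rw [cj_mul, ← h4, cj_inv_cj]

theorem relIndex_n [IsSimpleGroup G] (hc : P.Cj P') (h : P'.A ≠ P.A) :
    𝒩(P'.A).relIndex P.A = Nat.card F := by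
  obtain ⟨n, hn, x, hx, hB, hA, -⟩ := exists_std hc h
  have hx1 : x ≠ 1 := fun e => hA (e ▸ one_mem _)
  rw [← relIndex_cj n, cj_normalizer, mem_normalizer_iff_cj.1 hn, ← relIndex_A (P.B_le_Q hB) hA,
    ← inf_relIndex_right, ← inf_relIndex_right 𝒞[x]]
  congr 1
  rw [← cj_A] at hx ⊢
  refine le_antisymm (fun u hu => ⟨mem_centralizer_singleton_iff.2 (commutatorElement_eq_one_iff_mul_comm.1
    (by_contra fun e => hA ?_)), hu.2⟩) (inf_le_inf_right _ (cent_le_A hx hx1))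
  exact A_eq_of (hc.trans (P'.cj_cj' n))
    (ne_bot_of ⟨comm_mem_right hu.1 hx, comm_mem_left hu.2 (P.S_nA (P.B_le_S hB))⟩ e) ▸ hx

/-- the conjugates of `A` -/
def Pts (P : Fr G F m) : Type u := {X : Subgroup G // ∃ P', P.Cj P' ∧ P'.A = X}

instance (P : Fr G F m) : MulAction G P.Pts where
  smul g X := ⟨Tech.cj g X.1, by
    obtain ⟨P', c, e⟩ := X.2
    exact ⟨P'.cj g, c.trans (P'.cj_cj' g), by rw [cj_A, e]⟩⟩
  one_smul X := Subtype.ext (Tech.cj_one _)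
  mul_smul g h X := Subtype.ext (cj_mul _ _ _)

instance (P : Fr G F m) : Finite P.Pts := Subtype.finite

theorem smul_eq_iff {g : G} {X : P.Pts} : g • X = X ↔ g ∈ 𝒩(X.1) :=
  Subtype.ext_iff.trans mem_normalizer_iff_cj.symm

theorem exists_ne [IsSimpleGroup G] (P : Fr G F m) : ∃ g, g ∉ 𝒩(P.A) := by
  by_contra! h
  have hn : P.A.Normal := normalizer_eq_top_iff.1 (eq_top_iff.2 fun g _ => h g)
  rcases hn.eq_bot_or_eq_top with e | e
  · exact P.Z_ne_bot (eq_bot_iff.2 (e ▸ P.Z_le_A))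
  · have h1 : P.Z = P.B := inf_eq_right.2 (e ▸ le_top)
    have h2 := P.card_B
    rw [← h1, card_Z] at h2
    have := P.two
    have := Nat.pow_right_injective (le_trans (by norm_num) P.four) ((pow_one _).trans h2)
    omega

theorem onan [IsSimpleGroup G] (P : Fr G F m) : Perm.ONan (fun X : P.Pts => X.1) where
  two := by
    rintro ⟨_, P₁, c1, rfl⟩ ⟨_, P₂, c2, rfl⟩ ⟨_, P₃, c3, rfl⟩ ⟨_, P₄, c4, rfl⟩ h h'
    obtain ⟨g, rfl⟩ := c1.symm.trans c3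
    obtain ⟨k, hk, e⟩ := two_trans (c3.symm.trans (c2.trans (P₂.cj_cj' g))) (c3.symm.trans c4)
      (fun e => h (Subtype.ext (cj_injective g (by rw [← cj_A, ← cj_A, e])))) fun e => h' (Subtype.ext e.symm)
    refine ⟨k * g, Subtype.ext ?_, Subtype.ext ?_⟩
    · exact (cj_mul _ _ _).trans (by rw [← cj_A]; exact mem_normalizer_iff_cj.1 hk)
    · exact (cj_mul _ _ _).trans (by rw [← cj_A]; exact e)
  faith g hg := by
    obtain ⟨k, hk⟩ := P.exists_ne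
    rcases (MulAction.toPermHom G P.Pts).normal_ker.eq_bot_or_eq_top with e | e
    · exact mem_bot.1 (e ▸ (Equiv.ext hg : g ∈ (MulAction.toPermHom G P.Pts).ker))
    · exact absurd (smul_eq_iff.1 (Equiv.congr_fun (e ▸ mem_top k : k ∈ (MulAction.toPermHom G P.Pts).ker)
        ⟨_, P, Cj.refl P, rfl⟩)) hk
  fix h := smul_eq_iff.2 (le_normalizer h)
  conj g h := conj_mem_cj.2 h
  nsr := by
    obtain ⟨k, hk⟩ := P.exists_ne
    have h : (P.cj k).A ≠ P.A := by rwa [cj_A, Ne, ← mem_normalizer_iff_cj]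
    have h1 : 𝒩((P.cj k).A) ⊓ P.A ≠ ⊥ := fun e => by
      have h2 := relIndex_n (P.cj_cj' k) h
      rw [← inf_relIndex_right, e, relIndex_bot_left, card_A] at h2
      have := P.two
      have := Nat.pow_right_injective (le_trans (by norm_num) P.four) (h2.trans (pow_one _).symm)
      omega
    obtain ⟨z, hz, hz1⟩ := exists_of_ne_bot h1
    exact ⟨⟨_, P, Cj.refl P, rfl⟩, ⟨_, _, P.cj_cj' k, rfl⟩, fun e => h (congrArg Subtype.val e).symm, z, hz.2,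
      hz1, smul_eq_iff.2 hz.1⟩
  comm {X _ _} ha hb := by
    obtain ⟨_, P₁, c1, rfl⟩ := X
    exact commA ha hb

theorem iso [IsSimpleGroup G] (P : Fr G F m) :
    Nonempty (G ≃* Matrix.ProjectiveSpecialLinearGroup (Fin (m + 2)) F) := by
  have h := P.onan
  obtain ⟨F', _, _, k, v, -, c⟩ := h.exists_coord
  obtain ⟨X, Y, hxy, g, hg, hg1, -⟩ := h.nsr
  have h1 := card_N c h X
  have h2 := card_N2 c h hxy
  rw [show MulAction.stabilizer G Y = 𝒩(Y.1) from Subgroup.ext fun _ => smul_eq_iff] at h2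
  obtain ⟨P₁, c1, e1⟩ := X.2
  obtain ⟨P₂, c2, e2⟩ := Y.2
  have h3 := relIndex_n (c1.symm.trans c2) fun e => hxy (Subtype.ext (by rw [← e1, ← e2, e]))
  rw [← e1] at h1 h2
  rw [← e2] at h2
  have h5 := card_mul_relIndex' (inf_le_left : P₁.A ⊓ 𝒩(P₂.A) ≤ P₁.A)
  rw [inf_relIndex_left, h3] at h5
  have hq : Nat.card F' = Nat.card F := by
    rw [← h1, ← h5, mul_assoc] at h2
    exact Nat.eq_of_mul_eq_mul_right Nat.card_pos (Nat.eq_of_mul_eq_mul_left Nat.card_pos h2)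
  obtain rfl : m + 2 = k := by
    rw [hq] at h1
    refine Nat.pow_right_injective (le_trans (by norm_num) P.four) (Eq.trans ?_ h1)
    exact (pow_succ _ _).trans (congrArg (· * _) P₁.card_A.symm)
  obtain ⟨φ⟩ := c.nonempty_equiv_psl h
  have h6 : (⨆ X : P.Pts, X.1 : Subgroup G) = ⊤ := h.normal_iSup.eq_bot_or_eq_top.resolve_left fun e =>
    hg1 (mem_bot.1 (e ▸ (le_iSup (fun X : P.Pts => X.1) _) hg))
  have := P.finF
  have := Fintype.ofFinite F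
  exact ⟨(topEquiv.symm.trans ((MulEquiv.subgroupCongr h6.symm).trans φ)).trans
    (Classical.pslMapEquiv (FiniteField.ringEquivOfCardEq (by
      rw [← Nat.card_eq_fintype_card, hq, Nat.card_eq_fintype_card])))⟩

end Fr

end CfsgLib.LnS
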