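import Cfsg.Agent.Lib.LnS.Defs
import Cfsg.Agent.Lib.Class2.Small
import Cfsg.Agent.Lib.Gold.All
import Cfsg.Agent.Lib.ClSys.SL

/-! Frames from an isomorphism of Sylow subgroups; the case of dimension three (plans/SYL2.md). -/

set_option autoImplicit false
set_option linter.unusedSectionVars false

namespace CfsgLib.LnS
open Subgroup Matrix Cfsg CfsgLib.Tech
open scoped commutatorElement CfsgLib.BG MatrixGroups

universe u
variable {G : Type u} [Group G] [Finite G] {F : Type*} [Field F] [Fintype F] {r : ℕ}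

namespace Wrap

/-- the upper unitriangular group -/
def UT (n : ℕ) (F : Type*) [Field F] : Subgroup (SpecialLinearGroup (Fin n) F) :=
  ClSys.uniSub (ClSys.slCoe n F) Function.injective_id

theorem mem_UT {n : ℕ} {g : SpecialLinearGroup (Fin n) F} : g ∈ UT n F ↔ Tri g.1 := by
  rw [UT, ClSys.mem_uniSub, ClSys.mem_triSub]
  refine ⟨fun h i j hij => ?_, fun h => ⟨fun i j hij => ?_, fun i => ?_⟩⟩
  · rcases hij.eq_or_lt with rfl | hij
    · exact (h.2 j).trans (one_apply_eq j).symm
    · exact (h.1 i j hij).trans (one_apply_ne hij.ne').symm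
  · exact (h i j (le_of_lt hij)).trans (one_apply_ne (ne_of_lt hij).symm)
  · exact (h i i le_rfl).trans (one_apply_eq i)

theorem det_tri {n : ℕ} {M : Matrix (Fin n) (Fin n) F} (h : Tri M) : M.det = 1 := by
  rw [det_of_isUpperTriangular fun i j hij => (h i j (le_of_lt hij)).trans (one_apply_ne (ne_of_lt hij).symm)]
  exact Finset.prod_eq_one fun i _ => (h i i le_rfl).trans (one_apply_eq i)

theorem card_UT (n : ℕ) : Nat.card (UT n F) = Fintype.card F ^ (n * (n - 1) / 2) := by
  let f : UT n F → ({p : Fin n × Fin n // p.1 < p.2} → F) := fun g p => g.1.1 p.1.1 p.1.2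
  have hf : Function.Bijective f := ⟨fun g h e => Subtype.ext (Subtype.ext (Matrix.ext fun i j => by
      rcases lt_or_ge i j with hij | hij
      · exact congrFun e ⟨(i, j), hij⟩
      · rw [mem_UT.1 g.2 i j hij, mem_UT.1 h.2 i j hij])), fun v => by
    let M : Matrix (Fin n) (Fin n) F :=
      fun i j => if h : i < j then v ⟨(i, j), h⟩ else (1 : Matrix (Fin n) (Fin n) F) i j
    have hM : Tri M := fun i j hij => dif_neg (not_lt.2 hij)
    exact ⟨⟨⟨M, det_tri hM⟩, mem_UT.2 hM⟩, funext fun p => dif_pos p.2⟩⟩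
  rw [Nat.card_congr (Equiv.ofBijective f hf), Nat.card_fun, Nat.card_eq_fintype_card,
    Nat.card_eq_fintype_card, Fintype.card_subtype, Fintype.card_product_filter_lt, Fintype.card_fin,
    Nat.choose_two_right]

theorem nonempty_equiv (hF : Fintype.card F = 2 ^ r) (n : ℕ)
    (P : Sylow 2 (ProjectiveSpecialLinearGroup (Fin (n + 1)) F)) :
    Nonempty (UT (n + 1) F ≃* (P : Subgroup (ProjectiveSpecialLinearGroup (Fin (n + 1)) F))) := by
  let ι : UT (n + 1) F →* ProjectiveSpecialLinearGroup (Fin (n + 1)) F :=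
    (QuotientGroup.mk' _).comp (UT (n + 1) F).subtype
  have hι : Function.Injective ι := (injective_iff_map_eq_one _).mpr fun g e => by
    obtain ⟨c, -, hc⟩ := Matrix.SpecialLinearGroup.mem_center_iff.mp ((QuotientGroup.eq_one_iff _).mp e)
    have h1 : c = 1 := by
      have := (congrFun (congrFun hc 0) 0).trans (mem_UT.1 g.2 0 0 le_rfl)
      simpa using this
    exact Subtype.ext (Subtype.ext (by rw [h1, map_one] at hc; exact hc.symm))
  have hc : Nat.card ι.range = 2 ^ (r * ((n + 1) * (n + 1 - 1) / 2)) := by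
    rw [← Nat.card_congr (MonoidHom.ofInjective hι).toEquiv, card_UT, hF, pow_mul]
  have : CharP F 2 := charP_of_card_eq_prime_pow hF
  obtain ⟨Q, hQ⟩ := (IsPGroup.of_card hc).exists_le_sylow
  exact ⟨(MonoidHom.ofInjective hι).trans ((MulEquiv.subgroupCongr (eq_of_le_of_card_ge hQ (by
    rw [Classical.psl_card_sylow 2 _ Q, hc, hF, ← pow_mul]))).trans (Sylow.equiv Q P))⟩

variable {m : ℕ}

theorem mul3 (M N : Matrix (Fin (m + 2)) (Fin (m + 2)) F) (i j : Fin (m + 2)) :
    (M * N) i j = M i 0 * N 0 j + ∑ k : Fin m, M i k.castSucc.succ * N k.castSucc.succ j +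
      M i (Fin.last m).succ * N (Fin.last m).succ j := by
  rw [mul_apply, Fin.sum_univ_succ, Fin.sum_univ_castSucc]
  exact (add_assoc _ _ _).symm

variable {M : Matrix (Fin (m + 2)) (Fin (m + 2)) F} (h : Tri M)
include h

theorem t00 : M 0 0 = 1 := (h _ _ le_rfl).trans (one_apply_eq _)
theorem tll : M (Fin.last m).succ (Fin.last m).succ = 1 := (h _ _ le_rfl).trans (one_apply_eq _)
theorem tm0 (i : Fin m) : M i.castSucc.succ 0 = 0 := (h _ _ (Fin.zero_le _)).trans (one_apply_ne (Fin.succ_ne_zero _))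
theorem tl0 : M (Fin.last m).succ 0 = 0 := (h _ _ (Fin.zero_le _)).trans (one_apply_ne (Fin.succ_ne_zero _))
theorem tlm (i : Fin m) : M (Fin.last m).succ i.castSucc.succ = 0 :=
  (h _ _ (Fin.succ_le_succ_iff.2 (Fin.le_last _))).trans
    (one_apply_ne fun e => (Fin.castSucc_lt_last i).ne' (Fin.succ_injective _ e))

end Wrap
open Wrap

theorem exists_fr (hr : 2 ≤ r) (hF : Fintype.card F = 2 ^ r) {m : ℕ} (hm : 2 ≤ m) (S : Sylow 2 G)
    (P : Sylow 2 (ProjectiveSpecialLinearGroup (Fin (m + 2)) F))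
    (e : (S : Subgroup G) ≃* (P : Subgroup (ProjectiveSpecialLinearGroup (Fin (m + 2)) F))) :
    Nonempty (Fr G F m) := by
  classical
  obtain ⟨e1⟩ := nonempty_equiv hF (m + 1) P
  let e' := e.trans e1.symm
  let M : G → Matrix (Fin (m + 2)) (Fin (m + 2)) F :=
    fun x => if h : x ∈ (S : Subgroup G) then (e' ⟨x, h⟩).1.1 else 1
  have hM : ∀ {x} (h : x ∈ (S : Subgroup G)), M x = (e' ⟨x, h⟩).1.1 := fun h => dif_pos h
  have hT : ∀ {x}, x ∈ (S : Subgroup G) → Tri (M x) := fun h => hM h ▸ mem_UT.1 (e' _).2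
  have hmul : ∀ {x y}, x ∈ (S : Subgroup G) → y ∈ (S : Subgroup G) → M (x * y) = M x * M y := fun h k => by
    rw [hM h, hM k, hM (mul_mem h k)]
    exact congrArg (fun z : UT (m + 2) F => z.1.1) (map_mul e' ⟨_, h⟩ ⟨_, k⟩)
  have hone : M 1 = 1 := by
    rw [hM (one_mem _)]
    exact congrArg (fun z : UT (m + 2) F => z.1.1) (map_one e')
  have hinj : Function.Injective fun i : Fin m => i.castSucc.succ :=
    (Fin.succ_injective _).comp (Fin.castSucc_injective _)
  refine ⟨{
    S := S
    a := fun x j => M x 0 j.castSucc.succ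
    g := fun x => (M x).submatrix (fun i => i.castSucc.succ) (fun i => i.castSucc.succ)
    b := fun x i => M x i.castSucc.succ (Fin.last m).succ
    c := fun x => M x 0 (Fin.last m).succ
    two := hm
    four := ?_
    ch := fun x => by rw [← one_mul x, ← add_mul, Class2.one_add_one hF, zero_mul]
    syl := IsSylowIn.of_sylow_top S
    g_one := by rw [hone]; exact submatrix_one _ hinj
    a_mul := fun h k => funext fun j => ?_
    g_mul := fun h k => Matrix.ext fun i j => ?_
    b_mul := fun h k => funext fun j => ?_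
    c_mul := fun h k => ?_
    tri := fun h i j hij => ?_
    inj := fun h k ha hg hb hc => ?_
    surj := fun a0 g0 b0 c0 h0 => ?_ }⟩
  · rw [Nat.card_eq_fintype_card, hF]
    exact Nat.pow_le_pow_right two_pos hr
  · rw [hmul h k, mul3, t00 (hT h), tlm (hT k), one_mul, mul_zero, add_zero]; rfl
  · rw [submatrix_apply, hmul h k, mul3, tm0 (hT h), tlm (hT k), zero_mul, mul_zero, add_zero, zero_add]
    rfl
  · rw [hmul h k, mul3, tm0 (hT h), tll (hT k), zero_mul, mul_one, zero_add, add_comm]; rfl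
  · rw [hmul h k, mul3, t00 (hT h), tll (hT k), one_mul, mul_one, add_comm, ← add_assoc]; rfl
  · rw [submatrix_apply, hT h _ _ (Fin.succ_le_succ_iff.2 (Fin.castSucc_le_castSucc_iff.2 hij))]
    exact congrFun (congrFun (submatrix_one _ hinj) i) j
  · refine congrArg Subtype.val (e'.injective (a₁ := ⟨_, h⟩) (a₂ := ⟨_, k⟩) (Subtype.ext (Subtype.ext ?_)))
    rw [← hM h, ← hM k]
    ext i j
    refine Fin.cases ?_ (fun i => Fin.lastCases ?_ (fun i => ?_) i) i <;>
      refine Fin.cases ?_ (fun j => Fin.lastCases ?_ (fun j => ?_) j) j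
    · rw [t00 (hT h), t00 (hT k)]
    · exact hc
    · exact congrFun ha j
    · rw [tl0 (hT h), tl0 (hT k)]
    · rw [tll (hT h), tll (hT k)]
    · rw [tlm (hT h), tlm (hT k)]
    · rw [tm0 (hT h), tm0 (hT k)]
    · exact congrFun hb i
    · exact congrFun (congrFun hg i) j
  · let N : Matrix (Fin (m + 2)) (Fin (m + 2)) F := Matrix.of (Fin.cons (Fin.cons 1 (Fin.snoc a0 c0))
      (Fin.snoc (fun i => Fin.cons 0 (Fin.snoc (g0 i) (b0 i))) (Fin.cons 0 (Fin.snoc 0 1))))
    have hN : Tri N := fun i j => by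
      refine Fin.cases ?_ (fun i => Fin.lastCases ?_ (fun i => ?_) i) i <;>
        refine Fin.cases ?_ (fun j => Fin.lastCases ?_ (fun j => ?_) j) j
      · exact fun _ => by simp [N]
      · exact fun h => absurd h (not_le.2 (Fin.succ_pos _))
      · exact fun h => absurd h (not_le.2 (Fin.succ_pos _))
      · exact fun _ => by simp only [N, of_apply, Fin.cons_succ, Fin.snoc_last, Fin.cons_zero,
          one_apply_ne (Fin.succ_ne_zero _)]
      · exact fun _ => by simp only [N, of_apply, Fin.cons_succ, Fin.snoc_last, one_apply_eq]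
      · exact fun _ => by
          simp only [N, of_apply, Fin.cons_succ, Fin.snoc_last, Fin.snoc_castSucc, tlm tri_one, Pi.zero_apply]
      · exact fun _ => by
          simp only [N, of_apply, Fin.cons_succ, Fin.snoc_castSucc, Fin.cons_zero, tm0 tri_one]
      · exact fun h => absurd (Fin.succ_le_succ_iff.1 h) (not_le.2 (Fin.castSucc_lt_last _))
      · intro h
        simp only [N, of_apply, Fin.cons_succ, Fin.snoc_castSucc]
        rw [h0 _ _ (Fin.castSucc_le_castSucc_iff.1 (Fin.succ_le_succ_iff.1 h))]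
        exact (congrFun (congrFun (submatrix_one _ hinj) i) j).symm
    obtain ⟨⟨s, hs⟩, es⟩ := e'.surjective ⟨⟨N, det_tri hN⟩, mem_UT.2 hN⟩
    have hs' : M s = N := by rw [hM hs, es]
    refine ⟨s, hs, funext fun j => ?_, Matrix.ext fun i j => ?_, funext fun i => ?_, ?_⟩
    all_goals simp only [hs', N, submatrix_apply, of_apply, Fin.cons_succ, Fin.cons_zero, Fin.snoc_castSucc,
      Fin.snoc_last]

theorem three [IsSimpleGroup G] (h3 : ¬ PRankLE 2 2 G) (hF : Fintype.card F = 2 ^ r) (S : Sylow 2 G)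
    (P : Sylow 2 (ProjectiveSpecialLinearGroup (Fin 3) F))
    (e : (S : Subgroup G) ≃* (P : Subgroup (ProjectiveSpecialLinearGroup (Fin 3) F))) :
    Nonempty (G ≃* ProjectiveSpecialLinearGroup (Fin 3) F) := by
  have : CharP F 2 := charP_of_card_eq_prime_pow hF
  have hr := Class2.pos_of_card hF
  have hc : Nat.card (S : Subgroup G) = (2 ^ r) ^ 3 := by
    rw [Nat.card_congr e.toEquiv, Classical.psl_card_sylow 2 3 P, hF]
  have hG : ¬ IsMulCommutative G := fun hG => by
    letI : CommGroup G := { (inferInstance : Group G) with mul_comm := mul_comm' }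
    have h0 := IsSimpleGroup.prime_card (α := G)
    have h1 := card_subgroup_dvd_card (S : Subgroup G)
    rw [hc, ← pow_mul] at h1
    have h2 := ((pow_dvd_pow 2 (show 2 ≤ r * 3 by omega)).trans h1)
    rw [(Nat.prime_dvd_prime_iff_eq Nat.prime_two h0).1 ((dvd_pow_self 2 two_ne_zero).trans h2) |>.symm] at h2
    norm_num at h2
  obtain ⟨K, _, _, hK, ⟨⟨e1⟩⟩ | ⟨⟨e1⟩⟩⟩ := Class2.of_psl3 hG h3 S Gold.all hF P e
  · exact ⟨e1.trans (Classical.pslMapEquiv (FiniteField.ringEquivOfCardEq (hK.trans hF.symm)))⟩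
  · have : CharP K 2 := charP_of_card_eq_prime_pow hK
    have h1 := Symp.card_PSp (F := K) (m := 2) one_le_two
    have h2 : Nat.gcd 2 (Fintype.card K - 1) = 1 := by
      rw [hK]
      exact Nat.coprime_two_left.2 (Nat.Even.sub_odd Nat.one_le_two_pow ((Nat.even_pow' (by omega)).2 even_two) odd_one)
    rw [h2, one_mul, ← Nat.card_congr e1.toEquiv] at h1
    have h4 := Classical.sl_card_sylow_of_card 2 h1 (by
      rw [Prime.dvd_finsetProd_iff Nat.prime_two.prime]
      rintro ⟨i, -, hi⟩
      exact Classical.sl_not_dvd_pow_sub_one (F := K) 2 (2 * i + 1) hi) S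
    rw [hc, hK, ← pow_mul, ← pow_mul] at h4
    have := Nat.pow_right_injective le_rfl h4
    omega

end CfsgLib.LnS
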