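import Cfsg.Agent.Lib.LnS.Full
import Cfsg.Agent.Lib.Holt.Wrap
import Cfsg.Agent.Lib.W2.Fpf
import Cfsg.Agent.Lib.InvChar.EarlyA

/-! Generation and cores (plans/SYL2.md). -/

set_option autoImplicit false
set_option linter.unusedSectionVars false

namespace CfsgLib.LnS
open Subgroup Matrix Cfsg CfsgLib.Tech CfsgLib.PComp
open scoped commutatorElement CfsgLib.BG

/-- a permutation group all of whose non-identity elements move `σ` points has order dividing `σ` -/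
theorem card_dvd_support {A : Type*} [Group A] [Finite A] {k σ : ℕ} (φ : A →* Equiv.Perm (Fin k))
    (h : ∀ a, a ≠ 1 → (φ a).support.card = σ) : Nat.card A ∣ σ := by
  classical
  letI : MulAction A (Fin k) := MulAction.compHom _ φ
  haveI := Fintype.ofFinite A
  haveI : ∀ a : A, Fintype (MulAction.fixedBy (Fin k) a) := fun a => Fintype.ofFinite _
  haveI := Fintype.ofFinite (Quotient (MulAction.orbitRel A (Fin k)))
  have h1 := MulAction.sum_card_fixedBy_eq_card_orbits_mul_card_group A (Fin k)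
  have h2 : ∀ a : A, Fintype.card (MulAction.fixedBy (Fin k) a) + (φ a).support.card = k := fun a => by
    rw [Fintype.card_of_subtype (φ a).supportᶜ fun x => by
      rw [Finset.mem_compl, Equiv.Perm.notMem_support]; rfl, Finset.card_compl_add_card, Fintype.card_fin]
  have h3 : ∑ a : A, (φ a).support.card + σ = Fintype.card A * σ := by
    rw [← Finset.add_sum_erase _ _ (Finset.mem_univ 1), map_one, Equiv.Perm.support_one, Finset.card_empty, zero_add,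
      Finset.sum_congr rfl fun a ha => h a (Finset.ne_of_mem_erase ha), Finset.sum_const, smul_eq_mul,
      Finset.card_erase_of_mem (Finset.mem_univ _), Finset.card_univ, ← Nat.succ_mul, Nat.succ_eq_add_one,
      Nat.sub_add_cancel Fintype.card_pos]
  have h4 := Finset.sum_congr (rfl : (Finset.univ : Finset A) = _) fun a _ => h2 a
  rw [Finset.sum_add_distrib, h1, Finset.sum_const, smul_eq_mul, Finset.card_univ] at h4
  rw [Nat.card_eq_fintype_card]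
  refine (Nat.dvd_add_right (?_ : Fintype.card A ∣ ∑ a : A, (φ a).support.card)).1 (h3 ▸ dvd_mul_right _ _)
  exact (Nat.dvd_add_right (dvd_mul_left _ _)).1 (h4 ▸ dvd_mul_right _ _)

namespace Fr

universe u
variable {G : Type u} [Group G] [Finite G] {F : Type*} [Field F] {m : ℕ} {P P' P'' : Fr G F m}
  {s t u v w x y z n : G} {R T U X H M : Subgroup G}

theorem card_A_ge (P : Fr G F m) : 64 ≤ Nat.card P.A := by
  rw [card_A]
  exact (Nat.pow_le_pow_left P.four 3).trans (Nat.pow_le_pow_right (by have := P.four; omega) (by have := P.two; omega))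

theorem not_alt [IsSimpleGroup G] (P : Fr G F m) {k : ℕ} (hk : 7 ≤ k)
    (e : G ≃* alternatingGroup (Fin k)) : False := by
  let φ : G →* Equiv.Perm (Fin k) := (alternatingGroup (Fin k)).subtype.comp e.toMonoidHom
  have hφ : Function.Injective φ := Subtype.val_injective.comp e.injective
  have hc : ∀ {a b : G}, IsConj a b → (φ a).support.card = (φ b).support.card := fun h => by
    obtain ⟨c, rfl⟩ := isConj_iff.1 h
    rw [map_mul, map_mul, map_inv, Equiv.Perm.card_support_conj]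
  have key : ∀ a ∈ P.A, a ≠ 1 → 64 ≤ (φ a).support.card := fun a ha h1 =>
    P.card_A_ge.trans (Nat.le_of_dvd (Finset.card_pos.2 (Finset.nonempty_iff_ne_empty.2 fun h =>
        h1 (hφ ((Equiv.Perm.support_eq_empty_iff.1 h).trans φ.map_one.symm))))
      (card_dvd_support (φ.comp P.A.subtype) fun b hb =>
        hc (isConj_D (full b.2 fun h => hb (Subtype.ext h)) (full ha h1))))
  let i : Fin 7 → Fin k := Fin.castLE hk
  have hi : Function.Injective i := Fin.castLE_injective hk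
  let τ : alternatingGroup (Fin k) := ⟨Equiv.swap (i 0) (i 1) * Equiv.swap (i 2) (i 3), by
    rw [Equiv.Perm.mem_alternatingGroup, map_mul, Equiv.Perm.sign_swap (hi.ne (by decide)),
      Equiv.Perm.sign_swap (hi.ne (by decide))]; rfl⟩
  have hd : (Equiv.swap (i 0) (i 1)).Disjoint (Equiv.swap (i 2) (i 3)) :=
    Equiv.Perm.disjoint_swap_swap (List.Nodup.map (l := [0, 1, 2, 3]) hi (by decide))
  have h4 : (φ (e.symm τ)).support.card = 4 := by
    show ((e (e.symm τ) : alternatingGroup (Fin k)) : Equiv.Perm (Fin k)).support.card = 4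
    rw [e.apply_symm_apply, hd.card_support_mul, Equiv.Perm.card_support_swap (hi.ne (by decide)),
      Equiv.Perm.card_support_swap (hi.ne (by decide))]
  have h2 : e.symm τ ^ 2 ^ 1 = 1 := by
    rw [← map_pow, ← e.symm.map_one]
    refine congrArg _ (Subtype.ext ?_)
    show (Equiv.swap (i 0) (i 1) * Equiv.swap (i 2) (i 3)) ^ 2 = 1
    rw [hd.commute.mul_pow, pow_two, pow_two, Equiv.swap_mul_self, Equiv.swap_mul_self, one_mul]
  obtain ⟨g, -, hx⟩ := P.syl.exists_conj_mem (mem_top (e.symm τ)) (isPGroup_zpowers_of_pow h2)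
  rw [hc (isConj_iff.2 ⟨g, rfl⟩)] at h4
  generalize g * e.symm τ * g⁻¹ = x at hx h4
  by_cases h : ∀ u ∈ P.A, u * x = x * u
  · have := key x (cent_A hx h) (by rintro rfl; simp at h4)
    omega
  · push Not at h
    obtain ⟨u, hu, h⟩ := h
    have h5 := key (u * (x * u⁻¹ * x⁻¹)) (mul_mem hu (conj_mem_of_mem_normalizer (P.S_nA hx) (inv_mem hu)))
      fun e => h (by rw [← mul_inv_eq_one, ← e]; group)
    rw [show u * (x * u⁻¹ * x⁻¹) = u * x * u⁻¹ * x⁻¹ by group, map_mul] at h5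
    have h6 := (Finset.card_le_card (Equiv.Perm.support_mul_le (φ (u * x * u⁻¹)) (φ x⁻¹))).trans
      (Finset.card_union_le _ _)
    rw [← hc (isConj_iff.2 ⟨u, rfl⟩), map_inv, Equiv.Perm.support_inv, ← map_inv] at h6
    omega

theorem gen [IsSimpleGroup G] (hA : 𝒩(P.A) ≤ M) (hB : 𝒩(P.B) ≤ M)
    (hC : ∀ z ∈ P.Z, z ≠ 1 → 𝒞[z] ≤ M) : M = ⊤ := by
  by_contra hM
  obtain ⟨z, hz, -, -, h1, -⟩ := P.exists_two_Z
  have hZ : 𝒞(P.Z) ≤ M := (centralizer_le (Set.singleton_subset_iff.2 hz)).trans (hC z hz h1)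
  have hS : P.S ≤ M := P.S_cZ.trans hZ
  have h2 : z * z = 1 := sqA (P.Z_le_A hz)
  have hn : ¬ IsMulCommutative G := fun h => by
    obtain ⟨u, -, v, -, -, -, e⟩ := exists_ncomm (one_mem P.Q)
    exact e (h.is_comm.comm u v)
  have hr : IsTwoCentralInvolution z := ⟨orderOf_eq_prime (by rwa [pow_two]) h1, P.syl.toSylowTop, P.Z_le_S hz,
    fun x hx => (mem_centralizer_iff.1 (P.S_cZ hx) z hz).symm⟩
  have hf : ∀ g : G, g * z * g⁻¹ ∈ M → ∃ h ∈ M, h * z * h⁻¹ = g * z * g⁻¹ := fun g hg => by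
    suffices h : ∃ h ∈ M, h * (g * z * g⁻¹) * h⁻¹ ∈ P.Z by
      obtain ⟨h, hh, e⟩ := h
      obtain ⟨k, hk, e'⟩ := exists_nS (n := h * g) hz (by simpa [mul_assoc] using e)
      exact ⟨h⁻¹ * k, mul_mem (inv_mem hh) (hA (P.nQ_nA (P.nS_nQ hk))), by
        rw [show h⁻¹ * k * z * (h⁻¹ * k)⁻¹ = h⁻¹ * (k * z * k⁻¹) * h by group, e']; group⟩
    have hd : g * z * g⁻¹ ∈ P.D := conj_mem_D g (mem_D.2 ⟨h1, P, Cj.refl P, hz⟩)
    obtain ⟨l, hl, hdS⟩ := (P.syl.of_le hS le_top).exists_conj_mem hg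
      (isPGroup_zpowers_of_pow (k := 1) (by rw [pow_one, pow_two, conj_mul, h2]; group))
    obtain ⟨P₁, c₁, hd₁, hZ₁⟩ := exists_fr_D (conj_mem_D l hd) (P.two_S.to_le P.Z_le_S) fun y hy =>
      mem_centralizer_singleton_iff.2 (mem_centralizer_iff.1 (P.S_cZ hdS) y hy)
    obtain ⟨c, hc, hZ₂⟩ := P.exists_fr (P₁.two_S.to_le P₁.Z_le_S) (le_centralizer_iff.1 (hZ₁.trans P₁.S_cZ))
    have c₂ := c₁.trans (P₁.cj_cj' c⁻¹)
    have hS₂ : (P₁.cj c⁻¹).Z ≤ P.S := by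
      rw [cj_Z, ← cj_le_cj_iff c, cj_cj_inv]; exact hZ₂
    have hd₂ : c⁻¹ * l * (g * z * g⁻¹) * (c⁻¹ * l)⁻¹ ∈ (P₁.cj c⁻¹).Z := by
      rw [cj_Z, mem_cj]; simpa [mul_assoc] using hd₁
    have hl₂ : c⁻¹ * l ∈ M := mul_mem (inv_mem (hZ hc)) hl
    generalize P₁.cj c⁻¹ = P₂ at c₂ hS₂ hd₂
    suffices h : ∃ n ∈ M, P₂.Z = Tech.cj n P.Z by
      obtain ⟨n, hn, e⟩ := h
      rw [e, mem_cj] at hd₂
      exact ⟨n⁻¹ * (c⁻¹ * l), mul_mem (inv_mem hn) hl₂, by simpa [mul_assoc] using hd₂⟩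
    by_cases hQ : P₂.Z ⊓ P.Q = ⊥
    · obtain ⟨P₃, ⟨h, rfl⟩, e1, -, e2⟩ := std c₂ hS₂ hQ
      have hh : h ∈ M := hA (mem_normalizer_iff_cj.2 (by rw [← cj_A, e1]))
      obtain ⟨n, hn, e⟩ := orb_A ((P.cj_cj' h).symm.trans c₂).dual (by rwa [dual_Z, dual_A])
      rw [dual_A, cj_B, ← cj_normalizer] at hn
      rw [dual_Z, dual_Z, cj_Z, ← Tech.cj_mul] at e
      exact ⟨n * h, mul_mem (cj_eq_of_mem hh ▸ cj_mono h hB hn) hh, e⟩
    · rcases le_or c₂ hS₂ hQ with h | h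
      · obtain ⟨n, hn, e⟩ := orb_A c₂ h
        exact ⟨n, hA hn, e⟩
      · obtain ⟨n, hn, e⟩ := orb_A c₂.dual (by rwa [dual_Z, dual_A])
        exact ⟨n, hB (by rwa [dual_A] at hn), by rwa [dual_Z, dual_Z] at e⟩
  rcases Holt.holt_sub hn hM hr (Holt.uf_quot (hS (P.Z_le_S hz)) (hC z hz h1) hf) with ⟨-, S₁, rfl⟩ | ⟨k, hk, -, -, ⟨e⟩, -⟩
  · have e : (S₁ : Subgroup G) = P.S := P.syl.eq_of_le S₁.isPGroup'
      ((IsSylowIn.of_sylow_top S₁).le_of_normalizes P.two_S le_top hS) le_top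
    rw [e] at hA
    have : ¬ P.A ≤ P.Z := fun h => by
      have h3 := card_le_of_le h
      rw [card_A, card_Z] at h3
      have := P.four
      have := P.two
      exact absurd h3 (not_le.2 (lt_of_eq_of_lt (pow_one _).symm (Nat.pow_lt_pow_right (by omega) (by omega))))
    refine this fun y hy => by_contra fun h => ?_
    obtain ⟨n, hn, e⟩ := exists_A (full hy fun e => h (e ▸ one_mem _)) hy
    simpa [mul_assoc, h] using conj_mem_of_mem_normalizer' (P.nQ_nZ (P.nS_nQ (hA hn))) e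
  · exact P.not_alt hk e

theorem sft [IsSimpleGroup G] (P : Fr G F m) : Odd (Nat.card (W2.Wsup P.A fun a => opOf 2 𝒞[a])) ∧
    W2.Wsup P.A (fun a => opOf 2 𝒞[a]) = W2.Wsup P.Z fun a => opOf 2 𝒞[a] := by
  have h := W2.sft_opOf (le_top : P.A ≤ ⊤) (fun a ha b hb => commA ha hb) (fun a ha => sqA ha)
    (le_trans (by norm_num) P.card_A_ge) fun a ha _ b hb h1 => by
      simp only [top_inf_eq]
      exact InvChar.Early.balance (sqA ha) (commA ha hb) (constr (full hb h1))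
  simp only [top_inf_eq] at h
  refine ⟨h.1, le_antisymm (Gold.le_of_cent1 (fun e he => sqA (P.Z_le_A he)) (P.card_Z ▸ P.four) h.1 (fun n hn => ?_)
    fun e he h1 => (h.2 e (P.Z_le_A he) h1).le.trans (W2.le_Wsup (fun a => opOf 2 𝒞[a]) he h1))
    (W2.Wsup_le fun a ha h1 => W2.le_Wsup (fun a => opOf 2 𝒞[a]) (P.Z_le_A ha) h1)⟩
  exact W2.mem_normalizer_Wsup (fun a ha => mul_mem (mul_mem (P.Z_le_A hn) ha) (inv_mem (P.Z_le_A hn)))
    fun a _ _ => (InvChar.Early.cj_theta 2 n a).le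

theorem core [IsSimpleGroup G] (hx : x ∈ P.D) : opOf 2 𝒞[x] = ⊥ := by
  obtain ⟨h1, P, -, hz⟩ := mem_D.1 hx
  have hA : ∀ P : Fr G F m, 𝒩(P.A) ≤ 𝒩(W2.Wsup P.Z fun a => opOf 2 𝒞[a]) := fun P n hn => by
    rw [← P.sft.2]
    exact W2.mem_normalizer_Wsup (fun a ha => conj_mem_of_mem_normalizer hn ha)
      fun a _ _ => (InvChar.Early.cj_theta 2 n a).le
  have h := gen (hA P) (by simpa only [dual_A, dual_Z] using hA P.dual) fun z hz h1 n hn => by
    obtain ⟨k, hk, e⟩ := ctrl_z hz h1 hn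
    simpa using mul_mem (hA P (P.nQ_nA hk)) (le_normalizer (W2.le_Wsup (fun a => opOf 2 𝒞[a]) hz h1 e))
  rcases (normalizer_eq_top_iff.1 h).eq_bot_or_eq_top with e | e
  · exact le_bot_iff.1 (e ▸ W2.le_Wsup (fun a => opOf 2 𝒞[a]) hz h1)
  · have h2 := P.sft.1
    rw [P.sft.2, e, card_top] at h2
    exact absurd (Odd.of_dvd_nat h2 (orderOf_eq_prime (by rw [pow_two, sqA (P.Z_le_A hz)]) h1 ▸ orderOf_dvd_natCard x))
      (by norm_num)

theorem cent_le [IsSimpleGroup G] (hz : z ∈ P.Z) (h1 : z ≠ 1) : 𝒞[z] ≤ 𝒩(P.Q) := fun n hn => by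
  obtain ⟨k, hk, e⟩ := ctrl_z hz h1 hn
  rw [core (mem_D.2 ⟨h1, P, Cj.refl P, hz⟩), mem_bot, inv_mul_eq_one] at e
  exact e ▸ hk

theorem cent_le_A [IsSimpleGroup G] (hx : x ∈ P.A) (h1 : x ≠ 1) : 𝒞[x] ≤ 𝒩(P.A) := fun c hc => by
  obtain ⟨n, hn, e⟩ := exists_A (full hx h1) hx
  have := P.nQ_nA (cent_le e (by simpa using h1) (cj_centralizer_singleton n x ▸ conj_mem_cj.2 hc))
  simpa [mul_assoc] using mul_mem (mul_mem (inv_mem hn) this) hn

theorem nZ_le [IsSimpleGroup G] (P : Fr G F m) : 𝒩(P.Z) ≤ 𝒩(P.Q) := fun n hn => by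
  obtain ⟨k, hk, e⟩ := ctrl hn
  obtain ⟨z, hz, -, -, h1, -⟩ := P.exists_two_Z
  generalize ho : k⁻¹ * n = o at e
  have h2 : o * z * o⁻¹ * z⁻¹ = 1 := Abel2.eq_one_of_mem_opOf P.two_S
    (P.Z_le_S (mul_mem (conj_mem_of_mem_normalizer (opOf_le _ e) hz) (inv_mem hz))) (by
      rw [mul_assoc, mul_assoc, ← mul_assoc z]
      exact mul_mem e (conj_mem_of_mem_normalizer (le_normalizer_opOf _ (le_normalizer hz)) (inv_mem e)))
  rw [eq_mul_of_inv_mul_eq ho]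
  exact mul_mem hk (cent_le hz h1 (mem_centralizer_singleton_iff.2 (by
    rw [← mul_inv_eq_one, ← h2]; group)))

/-- frames whose centres meet have the same `Q`, `A`, `B`, `Z` -/
theorem eq_of_mem [IsSimpleGroup G] (hc : P.Cj P') (hz : z ∈ P.Z) (hz' : z ∈ P'.Z) (h1 : z ≠ 1) :
    P'.Q = P.Q ∧ P'.A = P.A ∧ P'.B = P.B ∧ P'.Z = P.Z := by
  have h : P'.Z = P.Z := Z_eq hc (P.cent_of_two (P'.two_S.to_le P'.Z_le_S) fun y hy => P.nQ_nZ (cent_le hz h1
    (mem_centralizer_singleton_iff.2 (commA (P'.Z_le_A hy) (P'.Z_le_A hz'))))) fun e => h1 (mem_bot.1 (e ▸ ⟨hz, hz'⟩))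
  obtain ⟨g, rfl⟩ := hc
  have hg := P.nZ_le (mem_normalizer_iff_cj.2 (P.cj_Z g ▸ h))
  exact ⟨by rw [cj_Q, mem_normalizer_iff_cj.1 hg], by rw [cj_A, mem_normalizer_iff_cj.1 (P.nQ_nA hg)],
    by rw [cj_B, mem_normalizer_iff_cj.1 (P.nQ_nB hg)], h⟩

theorem ti_A [IsSimpleGroup G] (h : Tech.cj n P.A ⊓ P.A ≠ ⊥) : n ∈ 𝒩(P.A) := by
  obtain ⟨⟨x, h1, h2⟩, h3⟩ := ne_bot_iff_exists_ne_one.1 h
  replace h3 : x ≠ 1 := fun e => h3 (Subtype.ext e)
  have key : ∀ P : Fr G F m, x ∈ P.A → ∃ P', P.Cj P' ∧ P'.A = P.A ∧ x ∈ P'.Z := fun P hx => by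
    obtain ⟨k, hk, e⟩ := exists_A (full hx h3) hx
    exact ⟨P.cj k⁻¹, P.cj_cj' _, by rw [cj_A, mem_normalizer_iff_cj.1 (inv_mem hk)], by rwa [cj_Z, mem_cj, inv_inv]⟩
  obtain ⟨P₁, c₁, e₁, z₁⟩ := key P h2
  obtain ⟨P₂, c₂, e₂, z₂⟩ := key (P.cj n) (by rwa [cj_A])
  rw [mem_normalizer_iff_cj, ← cj_A, ← e₂, ← e₁]
  exact (eq_of_mem (c₁.symm.trans ((P.cj_cj' n).trans c₂)) z₁ z₂ h3).2.1

theorem gen' [IsSimpleGroup G] (P : Fr G F m) : 𝒩(P.A) ⊔ 𝒩(P.B) = ⊤ :=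
  gen le_sup_left le_sup_right fun _ hz h1 => ((cent_le hz h1).trans P.nQ_nA).trans le_sup_left

end Fr

end CfsgLib.LnS
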