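import Cfsg.Agent.Lib.LnS.Ty2

/-! In a simple group all of `A` is fused into `Z` (plans/SYL2.md). -/

set_option autoImplicit false
set_option linter.unusedSectionVars false

namespace CfsgLib.LnS
open Subgroup Matrix Cfsg CfsgLib.Tech CfsgLib.PComp
open scoped commutatorElement CfsgLib.BG

namespace Fr

universe u
variable {G : Type u} [Group G] [Finite G] {F : Type*} [Field F] {m : ℕ} {P P' P'' : Fr G F m}
  {s t u v w x y z n : G} {R T U X H M : Subgroup G}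

namespace Ful

theorem UA_le (P : Fr G F m) : P.UA ≤ P.A := fun _ h => (mem_UA.1 h).1

theorem mem_UB : x ∈ P.dual.UA ↔ x ∈ P.B ∧ (x = 1 ∨ x ∈ P.D) := by rw [mem_UA, dual_A, dual_D]

theorem UB_le (P : Fr G F m) : P.dual.UA ≤ P.B := fun _ h => (mem_UB.1 h).1

theorem Z_le_UB (P : Fr G F m) : P.Z ≤ P.dual.UA := P.dual_Z ▸ P.dual.Z_le_UA

theorem W_le_UB (P : Fr G F m) : ∀ u ∈ P.dual.UA, P.W u ≤ P.dual.UA := fun _ hu =>
  P.dual_W (P.B_le_Q (UB_le P hu)) ▸ W_le_UA hu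

theorem dd_UA (P : Fr G F m) : P.dual.dual.UA = P.UA := by rw [UA, UA, dual_D, dual_D, dual_A, dual_B]

theorem nQ_nUB (P : Fr G F m) : 𝒩(P.Q) ≤ 𝒩(P.dual.UA) := P.dual_Q ▸ P.dual.nQ_nA.trans P.dual.nA_nUA

theorem norm_cent (h : n ∈ 𝒩(X)) : n ∈ 𝒩(𝒞(X)) :=
  mem_normalizer_iff_cj.2 (by rw [cj_centralizer, mem_normalizer_iff_cj.1 h])

theorem nQ_nY (P : Fr G F m) : 𝒩(P.Q) ≤ 𝒩(P.A ⊓ 𝒞(P.dual.UA)) := fun _ hn =>
  mem_normalizer_of_forall fun _ hx => ⟨conj_mem_of_mem_normalizer (P.nQ_nA hn) hx.1,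
    conj_mem_of_mem_normalizer (norm_cent (nQ_nUB P hn)) hx.2⟩

theorem cj_UA (P : Fr G F m) (h : G) : (P.cj h).UA = Tech.cj h P.UA := by
  ext x
  rw [mem_cj, mem_UA, mem_UA, cj_A, mem_cj, (P.cj_cj' h).D_eq]
  refine and_congr_right fun _ => or_congr (by simp [mul_eq_one_iff_eq_inv]) ⟨fun e => ?_, fun e => ?_⟩
  · simpa using conj_mem_D h⁻¹ e
  · simpa [mul_assoc] using conj_mem_D h e

theorem half (P : Fr G F m) : P.dual.UA = P.B ∨ P.UA ≤ 𝒞(P.dual.UA) := by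
  have hZ : P.Z ≤ P.A ⊓ 𝒞(P.dual.UA) :=
    le_inf P.Z_le_A fun z hz u hu => (P.S_cZ (P.B_le_S (UB_le P hu)) z hz).symm
  rcases hZ.eq_or_lt with e | e
  · exact Or.inl (le_antisymm (UB_le P) fun v hv => dcent (UB_le P) (Z_le_UB P) (W_le_UB P) hv fun w hw =>
      P.S_cZ (P.B_le_S hv) w (e.ge hw))
  obtain ⟨v, hv, h1, h2⟩ := exists_fix e (inf_le_left.trans P.A_le_S) (P.S_nQ.trans (nQ_nY P))
  refine Or.inr fun x hx => ?_
  obtain ⟨k, hk, h3⟩ := exists_fix_UA hx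
  have h4 := fix_A hv.1 h1 h2 (conj_mem_of_mem_normalizer (P.nQ_nA hk) (UA_le P hx)) h3
  have h5 : k * x * k⁻¹ ∈ 𝒞(P.dual.UA) := fun u hu =>
    (comm_W (P.B_le_S (UB_le P hu)) hv.1.1 h4 (hv.2 u hu).symm).symm
  simpa [mul_assoc] using conj_mem_of_mem_normalizer' (norm_cent (nQ_nUB P hk)) h5

theorem exists_B (P : Fr G F m) : ∃ v ∈ P.B, v ∉ P.A := by
  obtain ⟨s, hs, e1, e2, e3, -⟩ := P.surj 0 1 (fun _ => 1) 0 tri_one
  exact ⟨s, ⟨⟨hs, e2⟩, e1⟩, fun h => one_ne_zero (congrFun (e3.symm.trans h.2) ⟨0, by have := P.two; omega⟩)⟩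

theorem inf_Z (hc : P.Cj P') (h : P'.A = P.A) (hne : P'.Z ≠ P.Z) (hx : x ∈ P.Z) (hx' : x ∈ P'.Z) : x = 1 := by
  by_contra h1
  exact hne (Z_eq hc (P'.Z_le_A.trans (h.le.trans (P.A_le_S.trans P.S_cZ))) fun e => h1 (e.le ⟨hx, hx'⟩))

/-- the abelian subgroup `R` -/
def RR (P : Fr G F m) : Subgroup G := P.S ⊓ 𝒞(P.dual.UA) ⊓ 𝒞(P.A ⊓ 𝒞(P.dual.UA))

theorem R_comm (hs : s ∈ RR P) (ht : t ∈ RR P) : s * t = t * s := ab_R (UB_le P) (Z_le_UB P) (W_le_UB P) hs ht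

theorem R_le (P : Fr G F m) : RR P ≤ P.S := fun _ h => h.1.1

theorem R_sc (hn : n ∈ 𝒩(P.Z)) (hx : x ∈ RR P) (h : n * x * n⁻¹ ∈ P.S) : n * x * n⁻¹ ∈ RR P := by
  obtain ⟨k, hk, -, e⟩ := ctrl' hn
  have c : ∀ X ≤ P.Q, k ∈ 𝒩(X) → x ∈ 𝒞(X) → n * x * n⁻¹ ∈ 𝒞(X) := fun X hX h1 h2 u hu => by
    have m := conj_mem_of_mem_normalizer' h1 hu
    have := e x hx.1.1 h _ (hX m)
    rw [commutatorElement_eq_one_iff_mul_comm.2 (h2 _ m), show k * (k⁻¹ * u * k) * k⁻¹ = u by group] at this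
    exact commutatorElement_eq_one_iff_mul_comm.1 (by rw [← this]; group)
  exact ⟨⟨h, c _ ((UB_le P).trans P.B_le_Q) (nQ_nUB P hk) hx.1.2⟩,
    c _ (inf_le_left.trans P.A_le_Q) (nQ_nY P hk) hx.2⟩

theorem mem_D' (hc : P.Cj P') (hx : x ∈ P'.Z) : x = 1 ∨ x ∈ P.D :=
  (em (x = 1)).imp_right fun h => mem_D.2 ⟨h, P', hc, hx⟩

theorem Z_le_R (hU : P.UA ≤ 𝒞(P.dual.UA)) (hc : P.Cj P') (hS : P'.Z ≤ P.S) : P'.Z ≤ RR P := fun d hd => by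
  have hD := mem_D' hc hd
  by_cases h1 : P'.Z ⊓ P.Q = ⊥
  · obtain ⟨P₃, ⟨h, rfl⟩, e1, -, e2⟩ := std hc.dual (by rwa [dual_Z, dual_S]) (by rwa [dual_Z, dual_Q])
    rw [← dual_cj, dual_A, dual_A] at e1
    rw [← dual_cj, dual_B, dual_Z] at e2
    have e3 : (P.cj h).dual.UA = P.dual.UA := by rw [UA, UA, dual_D, dual_D, dual_A, dual_A, e1, (P.cj_cj' h).D_eq]
    have e4 : (P.cj h).UA ≤ 𝒞(P.dual.UA) := by
      rw [← e3, dual_cj, cj_UA, cj_UA, ← cj_centralizer]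
      exact cj_mono h hU
    refine ⟨⟨hS hd, e4 (mem_UA.2 ⟨e2 hd, by rwa [(P.cj_cj' h).D_eq]⟩)⟩, fun y hy => ?_⟩
    obtain ⟨P₂, c2, f1, f2, f3⟩ := std hc hS h1
    have yA : y ∈ P.A := hy.1
    have m := mul_mem (inv_mem yA) (conj_mem_of_mem_normalizer (P.S_nA (hS hd)) yA)
    have m' : y⁻¹ * (d * y * d⁻¹) ∈ P.B := cent_B (P.A_le_S m) fun b hb => by
      have k1 := hy.2 _ (e3.le (Z_le_UB _ (comm_Q ((P.cj h).B_le_Q (e1.ge (inv_mem hb)))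
        ((P.cj h).A_le_Q (e2 (inv_mem hd))))))
      have k2 := P.S_cZ (hS hd) _ (comm_Q hy.1.1 hb.1)
      simp only [commutatorElement_def, inv_inv] at k1 k2
      calc _ = y⁻¹ * (y * b * y⁻¹ * b⁻¹ * d) * (d⁻¹ * b * d) * y * d⁻¹ := by group
        _ = y⁻¹ * d * y * b * y⁻¹ * (b⁻¹ * d⁻¹ * b * d * y) * d⁻¹ := by rw [k2]; group
        _ = _ := by rw [k1]; group
    have := inf_Z c2 f1 f2 ⟨m, m'⟩ (by
      simpa [commutatorElement_def, mul_assoc] using comm_Q (P₂.A_le_Q (f1.ge (inv_mem yA))) (P₂.B_le_Q (f3 hd)))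
    rw [inv_mul_eq_one, eq_mul_inv_iff_mul_eq] at this
    exact this
  rcases le_or hc hS h1 with e | e
  · exact ⟨⟨hS hd, hU (mem_UA.2 ⟨e hd, hD⟩)⟩, fun y hy => commA hy.1 (e hd)⟩
  · exact ⟨⟨hS hd, fun u hu => commB (UB_le P hu) (e hd)⟩, fun y hy => (hy.2 d (mem_UB.2 ⟨e hd, hD⟩)).symm⟩

theorem D_mem_R (hU : P.UA ≤ 𝒞(P.dual.UA)) (hx : x ∈ P.D) (hS : x ∈ P.S) : x ∈ RR P := by
  obtain ⟨P', hc, h1, h2⟩ := exists_fr_D hx (P.two_S.to_le P.Z_le_S) fun z hz =>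
    mem_centralizer_singleton_iff.2 (P.S_cZ hS z hz)
  obtain ⟨c, h3, h4⟩ := P.exists_fr (P'.two_S.to_le P'.Z_le_S) (le_centralizer_iff.1 (h2.trans P'.S_cZ))
  have h5 := Z_le_R hU (hc.trans (P'.cj_cj' c⁻¹)) (by
    rw [cj_Z, ← cj_le_cj_iff c, cj_cj_inv]
    exact h4) (show c⁻¹ * x * c⁻¹⁻¹ ∈ _ by rwa [cj_Z, conj_mem_cj])
  have e : c * (c⁻¹ * x * c⁻¹⁻¹) * c⁻¹ = x := by group
  exact e ▸ R_sc (centralizer_le_normalizer _ h3) h5 (e.symm ▸ hS)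

/-- the subgroup generated by the conjugates of `Z` in `S` -/
def RS (P : Fr G F m) : Subgroup G := closure (P.D ∩ P.S)

theorem RS_le (P : Fr G F m) : RS P ≤ P.S := (closure_le _).2 fun _ h => h.2

theorem RS_conj {g : G} (h : ∀ x ∈ P.D, x ∈ P.S → g * x * g⁻¹ ∈ P.S) : Tech.cj g (RS P) ≤ RS P :=
  map_le_iff_le_comap.2 ((closure_le _).2 fun x hx => subset_closure ⟨conj_mem_D g hx.1, h x hx.1 hx.2⟩)

theorem RS_wc {g : G} (h : Tech.cj g (RS P) ≤ P.S) : Tech.cj g (RS P) ≤ RS P :=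
  RS_conj fun _ h1 h2 => h (conj_mem_cj.2 (subset_closure ⟨h1, h2⟩))

theorem Z_le_RS (hc : P.Cj P') (hS : P'.Z ≤ P.S) : P'.Z ≤ RS P := fun _ hx =>
  (mem_D' hc hx).elim (fun e => e ▸ one_mem _) fun e => subset_closure ⟨e, hS hx⟩

theorem not_le [IsSimpleGroup G] (P : Fr G F m) : ¬ P.UA ≤ 𝒞(P.dual.UA) := fun hU => by
  have l : RS P ≤ RR P := (closure_le _).2 fun x hx => D_mem_R hU hx.1 hx.2
  have nZ : P.S ≤ 𝒩(P.Z) := P.S_cZ.trans (centralizer_le_normalizer _)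
  have s1 : Gold.SC (RR P) 𝒩(P.Z) :=
    Gold.sc_of_isSylowIn (P.syl.of_le nZ le_top) (R_le P) fun a ha g hg => R_sc hg ha
  have h2 := P.two_S.to_le (RS_le P)
  have s2 : Gold.SC (RS P) ⊤ := Gold.sc_of_isSylowIn P.syl (RS_le P) fun a ha g _ hx => by
    obtain ⟨T, hT, h3⟩ := exists_isSylowIn_ge (H := 𝒞[g * a * g⁻¹]) (h2.map (MulAut.conj g).toMonoidHom)
      (cj_le_iff.2 fun r hr => mem_centralizer_singleton_iff.2 (by
        rw [conj_mul, conj_mul, R_comm (l hr) (l ha)]))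
    obtain ⟨c, hc, h4⟩ := hT.exists_cj_le (P.two_S.to_le P.Z_le_S) fun z hz =>
      mem_centralizer_singleton_iff.2 (P.S_cZ hx z hz)
    obtain ⟨h, -, h5⟩ := P.syl.exists_cj_le hT.pgroup le_top
    have h6 : Tech.cj (h * g) (RS P) ≤ RS P := RS_wc (by rw [cj_mul]; exact (cj_mono h h3).trans h5)
    have h7 : (P.cj (h * c)).Z ≤ RS P := Z_le_RS (P.cj_cj' _) (by rw [cj_Z, cj_mul]; exact (cj_mono h h4).trans h5)
    obtain ⟨e, he, h8⟩ := P.exists_fr (R := Tech.cj (c⁻¹ * g) (RS P)) (h2.map _) (cj_le_iff.2 fun r hr z hz => by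
      have := R_comm (l (h7 (show h * c * z * (h * c)⁻¹ ∈ _ by rwa [cj_Z, conj_mem_cj]))) (l (h6 (conj_mem_cj.2 hr)))
      calc _ = (h * c)⁻¹ * (h * c * z * (h * c)⁻¹ * (h * g * r * (h * g)⁻¹)) * (h * c) := by group
        _ = _ := by rw [this]; group)
    have h9 : Tech.cj (e⁻¹ * (c⁻¹ * g)) (RS P) ≤ RS P := RS_wc (by
      rw [cj_mul, ← cj_le_cj_iff e, cj_cj_inv]
      exact h8)
    have e1 : e * (e⁻¹ * (c⁻¹ * g) * a * (e⁻¹ * (c⁻¹ * g))⁻¹) * e⁻¹ = g * a * g⁻¹ := by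
      calc _ = c⁻¹ * (g * a * g⁻¹ * c) := by group
        _ = _ := by rw [← mem_centralizer_singleton_iff.1 hc]; group
    have m := h9 (conj_mem_cj.2 ha)
    obtain ⟨n, hn, e2⟩ := s1.control ⟨⟨fun x y => Subtype.ext (R_comm x.2 y.2)⟩⟩ P.two_S (R_le P) nZ (RS_le P m)
      (centralizer_le_normalizer _ he) (e1.symm ▸ hx)
    rw [← e1, ← e2]
    exact RS_conj (fun x h1 h2 => R_le P (conj_mem_of_mem_normalizer hn.2 (D_mem_R hU h1 h2))) (conj_mem_cj.2 m)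
  obtain ⟨z, hz, -, -, z1, -⟩ := P.exists_two_Z
  have t : Gold.ncl (RS P) ⊤ = ⊤ := by
    rw [Gold.ncl_top]
    exact (normalClosure_normal.eq_bot_or_eq_top).resolve_left fun e =>
      z1 (e.le (subset_normalClosure (Z_le_RS (Cj.refl P) P.Z_le_S hz)))
  have k : ∀ s ∈ P.S, s * s = 1 → s ∈ RR P := fun s hs e =>
    l (Class2.mem_of_sc Gold.all s2 ⟨⟨fun x y => Subtype.ext (R_comm (l x.2) (l y.2))⟩⟩ (t.symm ▸ P.syl) (RS_le P) hs e)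
  obtain ⟨v, hv, h1⟩ := exists_B P
  exact h1 (cent_A (P.B_le_S hv) fun u hu => R_comm (k u (P.A_le_S hu) (sqA hu)) (k v (P.B_le_S hv) (sqB hv)))

theorem isConj_mul (hy : y ∈ P.A) (h : y ∉ P.Z) (hz : z ∈ P.Z) : IsConj y (z * y) := by
  obtain ⟨u, hu, h1⟩ : ∃ u ∈ P.B, ⁅u, y⁆ ≠ 1 := by
    by_contra k
    push Not at k
    exact h ⟨hy, cent_B (P.A_le_S hy) fun u hu => commutatorElement_eq_one_iff_mul_comm.1 (k u hu)⟩
  obtain ⟨u', -, e⟩ := onto_Z (P.A_le_S hy) hu.1 (comm_Q hu.1 hy.1) h1 hz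
  exact isConj_iff.2 ⟨u', by rw [← e, commutatorElement_def]; group⟩

end Ful

theorem dich (P : Fr G F m) : (P.UA = P.A ∧ P.dual.UA = P.B) ∨ P.UA ≤ 𝒞(P.dual.UA) := by
  rcases Ful.half P with h | h
  · have := Ful.half P.dual
    rw [Ful.dd_UA, dual_B, le_centralizer_iff] at this
    exact this.imp_left fun e => ⟨e, h⟩
  · exact Or.inr h

theorem full [IsSimpleGroup G] (hx : x ∈ P.A) (h1 : x ≠ 1) : x ∈ P.D :=
  (mem_UA.1 ((P.dich.resolve_right (Ful.not_le P)).1.ge hx)).2.resolve_left h1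

theorem isConj_D [IsSimpleGroup G] (hx : x ∈ P.D) (hy : y ∈ P.D) : IsConj x y := by
  obtain ⟨v, hv, h1⟩ := Ful.exists_B P.dual
  rw [dual_B] at hv
  rw [dual_A] at h1
  have h2 : v ∉ P.Z := fun e => h1 e.2
  obtain ⟨n, hn, h3⟩ := exists_A (full hv fun e => h1 (e ▸ one_mem _)) hv
  have e1 : (P.cj n⁻¹).A = P.A := by rw [cj_A, mem_normalizer_iff_cj.1 (inv_mem hn)]
  have e2 : v ∈ (P.cj n⁻¹).Z := by rwa [cj_Z, mem_cj, inv_inv]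
  have k : ∀ z ∈ P.D, IsConj z v := by
    rintro z ⟨z1, h, hz⟩
    rw [mem_cj] at hz
    have := Ful.isConj_mul (e1.ge (P.Z_le_A hz)) (fun e => z1 (by
      simpa [mul_eq_one_iff_eq_inv] using Ful.inf_Z (P.cj_cj' _) e1 (fun l => h2 (l ▸ e2)) hz e)) e2
    rw [commA hv (P.Z_le_A hz)] at this
    exact ((isConj_iff.2 ⟨h⁻¹, by rw [inv_inv]⟩).trans this).trans (Ful.isConj_mul hv h2 hz).symm
  exact (k x hx).trans (k y hy).symm

end Fr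

end CfsgLib.LnS
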