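import Cfsg.Agent.Lib.LnS.Sc
import Cfsg.Agent.Lib.Class2.GoldApp
import Cfsg.Agent.Lib.Gold.All
import Cfsg.Agent.Lib.PD.CountA
import Cfsg.Agent.Lib.LnS.Normx

/-! `A` and `B` are normal modulo the core (plans/SYL2.md). -/

set_option autoImplicit false
set_option linter.unusedSectionVars false

namespace CfsgLib.LnS
open Subgroup Matrix Cfsg CfsgLib.Tech CfsgLib.PComp
open scoped commutatorElement CfsgLib.BG

namespace Fr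

universe u
variable {G : Type u} [Group G] [Finite G] {F : Type*} [Field F] {m : ℕ} {P P' P'' : Fr G F m}
  {s t u v w x y z n : G} {R T U X H M : Subgroup G}

theorem norm (hS : P.S ≤ H) (hA : ∀ h ∈ H, Tech.cj h P.A ⊓ P.S ≤ P.A) (hB : ∀ h ∈ H, Tech.cj h P.B ⊓ P.S ≤ P.B) :
    (∀ h ∈ H, ∃ k ∈ H ⊓ 𝒩(P.Q), k⁻¹ * h ∈ opOf 2 H) ∧ IsPConstrained 2 H := by
  have hi : ∀ s : H, (s : G) ∈ P.S → QuotientGroup.mk' (pPrimeCore 2 H) s = 1 → s = 1 := fun s hs e =>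
    Subtype.ext (Abel2.eq_one_of_mem_opOf P.two_S hs (mem_opOf_iff.2 ((QuotientGroup.eq_one_iff s).1 e)))
  have hf := QuotientGroup.mk'_surjective (pPrimeCore 2 H)
  have key : ∀ {X : Subgroup G}, X ≤ P.S → (∀ h ∈ H, Tech.cj h X ⊓ P.S ≤ X) →
      Gold.SC ((X.subgroupOf H).map (QuotientGroup.mk' (pPrimeCore 2 H))) ⊤ := fun hX h => by
    have := (Gold.sc_of_isSylowIn (P.syl.of_le hS le_top) hX fun a ha g hg e =>
      h g hg ⟨conj_mem_cj.2 ha, e⟩).subgroupOf.map (QuotientGroup.mk' (pPrimeCore 2 H))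
    rwa [map_top_of_surjective _ hf] at this
  obtain ⟨h1, h2⟩ := norm0 (P := P.map hS _ hf hi) (Core.pPrimeCore_quotient_pPrimeCore 2 H)
    (by rw [map_A]; exact key P.A_le_S hA) (by rw [map_B]; exact key P.B_le_S hB)
  refine ⟨fun h hh => ?_, PLocal.Constr.isPConstrained_iff.2 h2⟩
  rw [map_Q] at h1
  have h3 : h ∈ 𝒩(opOf 2 H ⊔ P.Q) := by
    have h4 : ∀ x ∈ P.Q, h * x * h⁻¹ ∈ opOf 2 H ⊔ P.Q := fun x hx => by
      obtain ⟨y, hy, e⟩ := h1.conj_mem _ (mem_map_of_mem _ (show (⟨x, hS hx.1⟩ : H) ∈ P.Q.subgroupOf H from hx))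
        (QuotientGroup.mk' _ ⟨h, hh⟩)
      rw [← map_inv, ← map_mul, ← map_mul, QuotientGroup.mk'_eq_mk'] at e
      obtain ⟨o, ho, e⟩ := e
      rw [← show (y : G) * o = h * x * h⁻¹ from congrArg Subtype.val e]
      exact mul_mem (mem_sup_right hy) (mem_sup_left (mem_opOf_iff.2 ho))
    refine mem_normalizer_of_cj_le ?_
    rw [cj_sup, mem_normalizer_iff_cj.1 (le_normalizer_opOf H hh)]
    exact sup_le le_sup_left (cj_le_iff.2 h4)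
  have hn : P.Q ≤ 𝒩(opOf 2 H) := (P.Q_le_S.trans hS).trans (le_normalizer_opOf H)
  have h5 : IsSylowIn 2 P.Q (opOf 2 H ⊔ P.Q) := by
    refine ⟨le_sup_right, P.two_S.to_le P.Q_le_S, fun e => ?_⟩
    have h6 := Coprime.card_sup_dvd_of_le_normalizer hn
    rw [← card_mul_relIndex' (le_sup_right : P.Q ≤ opOf 2 H ⊔ P.Q), mul_comm (Nat.card (opOf 2 H))] at h6
    exact absurd (Nat.Coprime.eq_one_of_dvd (coprime_card_opOf (p := 2) H).symm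
      (e.trans (Nat.dvd_of_mul_dvd_mul_left Nat.card_pos h6))) (by norm_num)
  obtain ⟨y, hy, e⟩ := h5.frattini' h3
  obtain ⟨o, ho, q, hq, rfl⟩ := (Coprime.mem_sup_iff_of_le_normalizer hn).1 hy
  refine ⟨h * o, ⟨mul_mem hh (opOf_le H ho), ?_⟩, by simpa using ho⟩
  simpa [mul_assoc] using mul_mem e (inv_mem (le_normalizer hq))

theorem ctrl (hn : n ∈ 𝒩(P.Z)) : ∃ k ∈ 𝒩(P.Q), k⁻¹ * n ∈ opOf 2 𝒩(P.Z) := by
  obtain ⟨k, hk, e⟩ := (norm (P.S_cZ.trans (centralizer_le_normalizer _))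
    (fun h hh => by rw [← cj_A]; exact sc_A (P.cj_cj' h) (by rw [cj_Z, mem_normalizer_iff_cj.1 hh]))
    fun h hh => by rw [← cj_B]; exact sc_B (P.cj_cj' h) (by rw [cj_Z, mem_normalizer_iff_cj.1 hh])).1 n hn
  exact ⟨k, hk.2, e⟩

theorem norm_z (hz : z ∈ P.Z) (h1 : z ≠ 1) :
    (∀ h ∈ 𝒞[z], ∃ k ∈ 𝒞[z] ⊓ 𝒩(P.Q), k⁻¹ * h ∈ opOf 2 𝒞[z]) ∧ IsPConstrained 2 𝒞[z] := by
  have key : ∀ h ∈ 𝒞[z], z ∈ (P.cj h).Z := fun h hh => by
    rw [cj_Z, mem_cj, mul_assoc, ← mem_centralizer_singleton_iff.1 hh, inv_mul_cancel_left]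
    exact hz
  refine norm (fun s hs => mem_centralizer_singleton_iff.2 (mem_centralizer_iff.1 (P.S_cZ hs) z hz).symm)
    (fun h hh => by rw [← cj_A]; exact sc_A' (P.cj_cj' h) hz (key h hh) h1) fun h hh => ?_
  rw [← cj_B]
  simpa only [dual_A, dual_S] using sc_A' (P.cj_cj' h).dual (by rwa [dual_Z]) (by rw [dual_Z]; exact key h hh) h1

theorem ctrl_z (hz : z ∈ P.Z) (h1 : z ≠ 1) (hn : n ∈ 𝒞[z]) :
    ∃ k ∈ 𝒩(P.Q), k⁻¹ * n ∈ opOf 2 𝒞[z] := by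
  obtain ⟨k, hk, e⟩ := (norm_z hz h1).1 n hn
  exact ⟨k, hk.2, e⟩

theorem constr (hx : x ∈ P.D) : IsPConstrained 2 𝒞[x] := by
  obtain ⟨h1, P', -, hz⟩ := mem_D.1 hx
  exact (norm_z hz h1).2

/-- `n` acts as an element `k` of `N(Q)` -/
theorem ctrl' (hn : n ∈ 𝒩(P.Z)) : ∃ k ∈ 𝒩(P.Q),
    (∀ x ∈ P.Q, n * x * n⁻¹ ∈ P.S → n * x * n⁻¹ = k * x * k⁻¹) ∧
    ∀ y ∈ P.S, n * y * n⁻¹ ∈ P.S → ∀ x ∈ P.Q,
      k * ⁅x, y⁆ * k⁻¹ = ⁅k * x * k⁻¹, n * y * n⁻¹⁆ := by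
  obtain ⟨k, hk, e⟩ := ctrl hn
  have hS : P.S ≤ 𝒩(P.Z) := P.S_cZ.trans (centralizer_le_normalizer _)
  have hk' : k ∈ 𝒩(P.Z) := by simpa using mul_mem hn (inv_mem (opOf_le _ e))
  have hO := le_normalizer_opOf (p := 2) 𝒩(P.Z)
  have key : ∀ a ∈ P.S, ∀ b ∈ P.S, a * b⁻¹ ∈ opOf 2 𝒩(P.Z) → a = b := fun a ha b hb h =>
    eq_of_mul_inv_eq_one (Abel2.eq_one_of_mem_opOf P.two_S (mul_mem ha (inv_mem hb)) h)
  have h1 : ∀ y ∈ 𝒩(P.Z), n * y * n⁻¹ * (k * y * k⁻¹)⁻¹ ∈ opOf 2 𝒩(P.Z) := fun y hy => by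
    rw [show n * y * n⁻¹ * (k * y * k⁻¹)⁻¹ = k * (k⁻¹ * n * (y * (k⁻¹ * n)⁻¹ * y⁻¹)) * k⁻¹ by group]
    exact conj_mem_of_mem_normalizer (hO hk') (mul_mem e (conj_mem_of_mem_normalizer (hO hy) (inv_mem e)))
  refine ⟨k, hk, fun x hx h => key _ h _ (conj_mem_of_mem_normalizer hk hx).1 (h1 x (hS hx.1)), fun y hy h x hx => ?_⟩
  have h2 := conj_mem_of_mem_normalizer hk hx
  refine key _ (conj_mem_of_mem_normalizer hk ?_).1 _ (mul_mem (mul_mem (mul_mem h2.1 h) (inv_mem h2.1)) (inv_mem h)) ?_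
  · rw [commutatorElement_def, mul_assoc, mul_assoc, ← mul_assoc y]
    exact mul_mem hx (conj_mem_Q hy (inv_mem hx))
  · have h3 := h1 y (hS hy)
    have h4 : k * y * k⁻¹ ∈ 𝒩(P.Z) := mul_mem (mul_mem hk' (hS hy)) (inv_mem hk')
    rw [show k * ⁅x, y⁆ * k⁻¹ = ⁅k * x * k⁻¹, k * y * k⁻¹⁆ by simp only [commutatorElement_def]; group,
      eq_mul_of_mul_inv_eq (rfl : n * y * n⁻¹ * (k * y * k⁻¹)⁻¹ = _)]
    generalize n * y * n⁻¹ * (k * y * k⁻¹)⁻¹ = o at h3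
    generalize k * y * k⁻¹ = b at h4
    have h5 := hS h2.1
    generalize k * x * k⁻¹ = a at h5
    rw [show ⁅a, b⁆ * ⁅a, o * b⁆⁻¹ = (a * b * a⁻¹ * b⁻¹) * o * (a * b * a⁻¹ * b⁻¹)⁻¹ * (a * o⁻¹ * a⁻¹) by
      simp only [commutatorElement_def]; group]
    exact mul_mem (conj_mem_of_mem_normalizer (hO (mul_mem (mul_mem (mul_mem h5 h4) (inv_mem h5)) (inv_mem h4))) h3)
      (conj_mem_of_mem_normalizer (hO h5) (inv_mem h3))

end Fr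

end CfsgLib.LnS
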