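import Cfsg.Agent.Lib.LnS.Ty1
import Cfsg.Agent.Lib.LnS.Norm

/-! The conjugates of `Z` inside `A` (plans/SYL2.md). -/

set_option autoImplicit false
set_option linter.unusedSectionVars false

namespace CfsgLib.LnS
open Subgroup Matrix Cfsg CfsgLib.Tech CfsgLib.PComp CfsgLib.LnS.Ty
open scoped commutatorElement CfsgLib.BG

namespace Fr

universe u
variable {G : Type u} [Group G] [Finite G] {F : Type*} [Field F] {m : ℕ} {P P' P'' : Fr G F m}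
  {s t u v w x y z n : G} {R T U X H M : Subgroup G}

theorem orb_pair (hc : P.Cj P') (hne : P'.Z ≠ P.Z) (hZ : P'.Z ≤ 𝒞(P.Z)) (h2 : IsPGroup 2 R)
    (h : R ≤ 𝒞(P.Z) ⊓ 𝒞(P'.Z)) : ∃ P₁ P₂ T, P.Cj P₁ ∧ P'.Cj P₂ ∧ P₁.Z = P.Z ∧ P₂.Z = P'.Z ∧
      R ≤ T ∧ Pair P₁ P₂ T := by
  obtain ⟨c, hc1, c', hc2, T, hT, hp⟩ := exists_pair hc hne hZ h2 h
  exact ⟨_, _, T, P.cj_cj' c, P'.cj_cj' c', ty_cjZ hc1, ty_cjZ hc2, hT, hp⟩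

theorem orb_tyA (hc : P.Cj P') (h : P'.Z ≤ P.A) (hne : P'.Z ≠ P.Z) : ∃ c ∈ 𝒞(P.Z), ∃ P₂, P.Cj P₂ ∧
    (P.cj c).A = P.A ∧ P₂.Z = P'.Z ∧ TyA (P.cj c) P₂ := by
  obtain ⟨c, hc1, c', hc2, T, hT, hp⟩ := exists_pair hc hne ((h.trans P.A_le_S).trans P.S_cZ)
    (ty_two P.A_le_S) (le_inf (P.A_le_S.trans P.S_cZ)
      fun u hu => mem_C_iff.2 fun y hy => commA (h hy) hu)
  have eA : P.A = (P.cj c).A := ty_eq_A fun u hu =>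
    sc_A (P.cj_cj' c).symm (ty_cjZ hc1).symm (mem_inf.2 ⟨hu, hp.le (hT hu)⟩)
  have hle : (P'.cj c').Z ≤ (P.cj c).A := by rw [ty_cjZ hc2, ← eA]; exact h
  refine ⟨c, hc1, _, hc.trans (P'.cj_cj' c'), eA.symm, ty_cjZ hc2, ?_⟩
  refine (hp.ty1 (ty_ne_bot (hle.trans (A_le_Q _)))).elim id fun k => ?_
  have := k.le
  rw [dual_Z, dual_A] at this
  exact absurd (ty_eq_Z (le_inf hle this)) hp.ne

theorem le_or (hc : P.Cj P') (hS : P'.Z ≤ P.S) (h1 : P'.Z ⊓ P.Q ≠ ⊥) : P'.Z ≤ P.A ∨ P'.Z ≤ P.B := by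
  by_cases hne : P'.Z = P.Z
  · exact Or.inl (hne ▸ P.Z_le_A)
  obtain ⟨P₁, P₂, T, c₁, c₂, e₁, e₂, -, hp⟩ := orb_pair hc hne (hS.trans P.S_cZ) IsPGroup.of_bot bot_le
  have hle : P'.Z ≤ P₁.S := e₂ ▸ hp.Z_le'.trans hp.le
  have h2 : P₂.Z ⊓ P₁.Q ≠ ⊥ := fun e => h1 (eq_bot_iff.2 fun x hx => e ▸ mem_inf.2 ⟨e₂ ▸ hx.1,
    sc_Q c₁.symm e₁.symm (mem_inf.2 ⟨hx.2, hle hx.1⟩)⟩)
  refine (hp.ty1 h2).imp (fun k x hx => sc_A c₁ e₁ (mem_inf.2 ⟨k.le (e₂ ▸ hx), hS hx⟩))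
    fun k x hx => sc_B c₁ e₁ (mem_inf.2 ⟨?_, hS hx⟩)
  have := k.le
  rw [dual_Z, dual_A, e₂] at this
  exact this hx

theorem le_A (hc : P.Cj P') (hS : P'.Z ≤ P.S) (hx : x ∈ P'.Z) (hA : x ∈ P.A) (h1 : x ≠ 1) :
    P'.Z ≤ P.A := by
  refine (le_or hc hS fun e => h1 (mem_bot.1 (e ▸ mem_inf.2 ⟨hx, hA.1⟩))).elim id fun k => ?_
  rw [Z_eq hc (hS.trans P.S_cZ) fun e => h1 (mem_bot.1 (e ▸ mem_inf.2 ⟨⟨hA, k hx⟩, hx⟩))]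
  exact P.Z_le_A

theorem orb_A (hc : P.Cj P') (h : P'.Z ≤ P.A) : ∃ n ∈ 𝒩(P.A), P'.Z = Tech.cj n P.Z := by
  by_cases hne : P'.Z = P.Z
  · exact ⟨1, one_mem _, by rw [Tech.cj_one, hne]⟩
  obtain ⟨c, -, P₂, ⟨g, rfl⟩, eA, eZ, k⟩ := orb_tyA hc h hne
  refine ⟨g, mem_normalizer_iff_cj.2 ?_, by rw [← eZ, cj_Z]⟩
  rw [← cj_A, k.eq, eA]

theorem A_eq (hc : P.Cj P') (h : P.Z ≤ P'.A) (hS : P'.A ≤ P.S) : P'.A = P.A := by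
  obtain ⟨n, hn, e⟩ := orb_A hc.symm h
  refine ty_eq_A fun x hx => sc_A (hc.trans (P'.cj_cj' n)) (by rw [cj_Z, e]) (mem_inf.2 ⟨?_, hS hx⟩)
  rwa [cj_A, cj_of_N hn]

theorem inf_A (hc : P.Cj P') (h : P'.Z ≤ P.A) : P.A ⊓ P'.S ≤ P'.A := by
  obtain ⟨n, hn, e⟩ := orb_A hc h
  have := sc_A (hc.symm.trans (P.cj_cj' n)) (by rw [cj_Z, e])
  rwa [cj_A, cj_of_N hn] at this

theorem inf_B (hc : P.Cj P') (h : P'.Z ≤ P.B) (hne : P'.Z ≠ P.Z) : P.A ⊓ P'.A = ⊥ := by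
  refine eq_bot_iff.2 fun x hx => ?_
  have hR : P.B ⊔ zpowers x ≤ P.S := sup_le P.B_le_S (zpowers_le.2 (P.A_le_S hx.1))
  obtain ⟨P₁, P₂, T, c₁, c₂, e₁, e₂, hT, hp⟩ := orb_pair hc hne ((h.trans P.B_le_S).trans P.S_cZ)
    (ty_two hR) (le_inf (hR.trans P.S_cZ) (sup_le
      (fun u hu => mem_C_iff.2 fun y hy => commB (h hy) hu) (zpowers_le.2 (P'.S_cZ (P'.A_le_S hx.2)))))
  have hxT : x ∈ T := hT (mem_sup_right (mem_zpowers x))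
  have eB : P.B = P₁.B := ty_eq_B fun u hu =>
    sc_B c₁.symm e₁.symm (mem_inf.2 ⟨hu, hp.le (hT (mem_sup_left hu))⟩)
  have x1 : x ∈ P₁.A := sc_A c₁.symm e₁.symm (mem_inf.2 ⟨hx.1, hp.le hxT⟩)
  have x2 : x ∈ P₂.A := sc_A c₂.symm e₂.symm (mem_inf.2 ⟨hx.2, hp.le' hxT⟩)
  have hle : P₂.Z ≤ P₁.B := by rw [e₂, ← eB]; exact h
  rcases hp.ty1 (ty_ne_bot (hle.trans P₁.B_le_Q)) with k | k
  · exact absurd (ty_eq_Z (le_inf k.le hle)) hp.ne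
  · have k1 := k.inf
    have k2 := k.eq
    rw [dual_Q, dual_Q, dual_A] at k1
    rw [dual_A, dual_A] at k2
    have x3 : x ∈ P₁.B := k1 ▸ mem_inf.2 ⟨x1.1, x2.1⟩
    exact hp.eq_one ⟨x1, x3⟩ ⟨x2, k2 ▸ x3⟩

theorem le_A_of_cent (h2 : IsPGroup 2 R) (h : R ≤ 𝒞(P.A)) : R ≤ P.A := by
  obtain ⟨g, hg, e⟩ := (P.syl.of_le P.S_nA le_top).exists_cj_le h2 (h.trans (C_le_N _))
  intro x hx
  have k : g * x * g⁻¹ ∈ P.A := cent_A (e (conj_mem_cj.2 hx))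
    (mem_C_iff.1 (conj_mem_of_mem_normalizer (N_le_NC _ hg) (h hx)))
  exact (mem_normalizer_iff.1 hg x).2 k

theorem exists_fr_A (hc : P.Cj P') (h : P'.Z ≤ P.A) (h2 : IsPGroup 2 R)
    (hR : R ≤ 𝒩(P.A) ⊓ 𝒞(P'.Z)) : ∃ P'', P.Cj P'' ∧ P''.A = P.A ∧ P''.Z = P'.Z ∧ R ≤ P''.S := by
  obtain ⟨n, hn, e⟩ := orb_A hc h
  have eA : (P.cj n).A = P.A := by rw [cj_A, cj_of_N hn]
  have eZ : (P.cj n).Z = P'.Z := by rw [cj_Z, e]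
  obtain ⟨g, hg, k⟩ := ((P.cj n).syl.of_le (le_inf (eA ▸ (P.cj n).S_nA) (eZ ▸ (P.cj n).S_cZ))
    le_top).exists_cj_le h2 hR
  refine ⟨(P.cj n).cj g⁻¹, (P.cj_cj' n).trans (cj_cj' _ _), ?_, ?_, ?_⟩
  · rw [cj_A, eA, cj_of_N (inv_mem (mem_inf.1 hg).1)]
  · rw [cj_Z, eZ, cj_of_C (inv_mem (mem_inf.1 hg).2)]
  · rw [cj_S, ← cj_inv_cj g R]; exact cj_mono _ k

theorem exists_A (hx : x ∈ P.D) (hA : x ∈ P.A) : ∃ n ∈ 𝒩(P.A), n * x * n⁻¹ ∈ P.Z := by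
  obtain ⟨P', hc, hx', h⟩ := exists_fr_D hx (ty_two P.A_le_S) fun u hu =>
    mem_centralizer_singleton_iff.2 (commA hu hA)
  obtain ⟨n, hn, e⟩ := orb_A hc (le_A_of_cent (ty_two P'.Z_le_S)
    (le_centralizer_iff.1 (h.trans P'.S_cZ)))
  rw [e, mem_cj] at hx'
  exact ⟨n⁻¹, inv_mem hn, by rwa [inv_inv]⟩

theorem orb_fr (hx : x ∈ P.D) (hA : x ∈ P.A) : ∃ P₀, P.Cj P₀ ∧ P₀.A = P.A ∧ x ∈ P₀.Z := by
  obtain ⟨n, hn, e⟩ := exists_A hx hA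
  exact ⟨_, P.cj_cj' n⁻¹, by rw [cj_A, cj_of_N (inv_mem hn)], by rwa [cj_Z, mem_cj, inv_inv]⟩

theorem orb_mem_D (hc : P.Cj P') (hx : x ∈ P'.Z) : x = 1 ∨ x ∈ P.D :=
  or_iff_not_imp_left.2 fun h => mem_D.2 ⟨h, P', hc, hx⟩

theorem orb_line {P₀ : Fr G F m} (k : TyA P P') (c₁ : P₀.Cj P) (c₂ : P₀.Cj P') (hy : y ∈ P'.Z)
    (h1 : y ≠ 1) (hx : x ∈ P.W y) : x = 1 ∨ x ∈ P₀.D := by
  rcases k.line y hy h1 x hx with e | ⟨w, -, e⟩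
  · exact orb_mem_D c₁ e
  · exact orb_mem_D (c₂.trans (P'.cj_cj' w⁻¹)) (by rwa [cj_Z, mem_cj, inv_inv])

/-- the union of the conjugates of `Z` in `A` -/
def UA (P : Fr G F m) : Subgroup G := closure (P.D ∩ P.A)

theorem mem_UA : x ∈ P.UA ↔ x ∈ P.A ∧ (x = 1 ∨ x ∈ P.D) := by
  refine ⟨fun h => ?_, fun h => h.2.elim (fun e => e ▸ one_mem _) fun e => subset_closure ⟨e, h.1⟩⟩
  induction h using closure_induction with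
  | mem x hx => exact ⟨hx.2, Or.inr hx.1⟩
  | one => exact ⟨one_mem _, Or.inl rfl⟩
  | inv x _ ih => rwa [inv_eq_of_mul_eq_one_left (sqA ih.1)]
  | mul x y _ _ hx hy =>
    refine ⟨mul_mem hx.1 hy.1, ?_⟩
    rcases hx.2 with rfl | hxD
    · rw [one_mul]; exact hy.2
    rcases hy.2 with rfl | hyD
    · rw [mul_one]; exact hx.2
    obtain ⟨P₀, c₀, eA, x0⟩ := orb_fr hxD hx.1
    obtain ⟨P₁, c₁, eA₁, y1⟩ := orb_fr hyD hy.1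
    rw [← c₀.D_eq]
    by_cases hne : P₁.Z = P₀.Z
    · exact orb_mem_D (Cj.refl _) (mul_mem x0 (hne ▸ y1))
    obtain ⟨c, hc, P₂, c₂, eA', eZ, k⟩ := orb_tyA (c₀.symm.trans c₁)
      (by rw [eA, ← eA₁]; exact P₁.Z_le_A) hne
    have hy2 : y ∈ P₂.Z := eZ ▸ y1
    exact orb_line k (P₀.cj_cj' c) c₂ hy2 hyD.1 (mul_mem ((P₀.cj c).Z_le_W y (ty_cjZ hc ▸ x0))
      (mem_W_self (k.le hy2).1))

theorem Z_le_UA (P : Fr G F m) : P.Z ≤ P.UA := by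
  exact fun x hx => mem_UA.2 ⟨P.Z_le_A hx, orb_mem_D (Cj.refl P) hx⟩

theorem nA_nUA (P : Fr G F m) : 𝒩(P.A) ≤ 𝒩(P.UA) := by
  refine fun g hg => mem_normalizer_of_forall fun x hx => ?_
  rw [mem_UA] at hx ⊢
  exact ⟨conj_mem_of_mem_normalizer hg hx.1, hx.2.imp (fun e => by simp [e]) (conj_mem_D g)⟩

theorem orb_UA (hx : x ∈ P.UA) (hZ : x ∉ P.Z) : ∃ c ∈ 𝒞(P.Z), ∃ P₂, P.Cj P₂ ∧ x ∈ P₂.Z ∧
    TyA (P.cj c) P₂ ∧ ∃ g ∈ 𝒩(P.Q), ∀ u ∈ P.A, c⁻¹ * u * c⁻¹⁻¹ = g * u * g⁻¹ := by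
  obtain ⟨hA, hD⟩ := mem_UA.1 hx
  obtain ⟨P₀, c₀, eA, x0⟩ := orb_fr (hD.resolve_left fun e => hZ (e ▸ one_mem _)) hA
  obtain ⟨c, hc, P₂, c₂, eA', eZ, k⟩ := orb_tyA c₀ (eA ▸ P₀.Z_le_A) fun e => hZ (e ▸ x0)
  obtain ⟨g, hg, e, -⟩ := ctrl' (P := P) (inv_mem (C_le_N _ hc))
  rw [cj_A, ← mem_normalizer_iff_cj] at eA'
  exact ⟨c, hc, P₂, c₂, eZ ▸ x0, k, g, hg, fun u hu =>
    e u hu.1 (P.A_le_S (conj_mem_of_mem_normalizer (inv_mem eA') hu))⟩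

theorem W_le_UA (hx : x ∈ P.UA) : P.W x ≤ P.UA := by
  by_cases hZ : x ∈ P.Z
  · rintro u ⟨hu, μ, e1, e2⟩
    rw [mem_Z] at hZ
    exact P.Z_le_UA (mem_Z.2 ⟨hu, by rw [e1, hZ.2.1, smul_zero], by rw [e2, hZ.2.2, smul_zero]⟩)
  obtain ⟨c, hc, P₂, c₂, hx2, k, g, hg, e⟩ := orb_UA hx hZ
  have hA := (mem_UA.1 hx).1
  intro u hu
  have huA := W_le_A hA hu
  refine mem_UA.2 ⟨huA, orb_line k (P.cj_cj' c) c₂ hx2 (fun e => hZ (e ▸ one_mem _)) ?_⟩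
  have e1 : (P.cj c).W x = Tech.cj c (P.W (c⁻¹ * x * c⁻¹⁻¹)) := by
    rw [← cj_W]; congr 1; group
  have e2 : P.W (g * x * g⁻¹) = Tech.cj g (P.W x) := by
    rw [← cj_W, W_eq (P' := P.cj g) (by rw [cj_Q, cj_of_N hg]) (conj_mem_of_mem_normalizer hg hA.1)]
  rw [e1, e x hA, e2, mem_cj, ← inv_inv c, inv_inv c⁻¹, e u huA]
  exact conj_mem_cj.2 hu

theorem exists_fix_UA (hx : x ∈ P.UA) : ∃ k ∈ 𝒩(P.Q), ∀ s ∈ P.S, ⁅k * x * k⁻¹, s⁆ ∈ P.Z := by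
  by_cases hZ : x ∈ P.Z
  · refine ⟨1, one_mem _, fun s hs => ?_⟩
    rw [one_mul, inv_one, mul_one, commutatorElement_eq_one_iff_mul_comm.2 (ty_comm_Z hZ hs)]
    exact one_mem _
  obtain ⟨c, hc, P₂, c₂, hx2, k, g, hg, e⟩ := orb_UA hx hZ
  refine ⟨g, hg, fun s hs => ?_⟩
  have := k.fix x hx2 (c * s * c⁻¹) (conj_mem_cj.2 hs)
  rw [cj_Z, mem_cj] at this
  rw [← e x (mem_UA.1 hx).1]
  convert this using 1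
  simp only [commutatorElement_def]; group

end Fr

end CfsgLib.LnS
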