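import Cfsg.Agent.Lib.LnS.Defs

/-! General lemmas for `Ty1`, `Orb`, `Ty2` (plans/SYL2.md). -/

set_option autoImplicit false

namespace CfsgLib.LnS.Ty
open Subgroup CfsgLib.Tech
open scoped commutatorElement CfsgLib.BG Pointwise

variable {G : Type*} [Group G] {H K D T X Y : Subgroup G} {x c w w' r l : G}

theorem mem_sup_n (h : K ≤ 𝒩(H)) : x ∈ H ⊔ K ↔ ∃ a ∈ H, ∃ b ∈ K, a * b = x := by
  rw [← SetLike.mem_coe, coe_mul_of_right_le_normalizer_left H K h, Set.mem_mul]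
  rfl

theorem card_sup_n (h : K ≤ 𝒩(H)) (hi : H ⊓ K = ⊥) :
    Nat.card ↥(H ⊔ K) = Nat.card H * Nat.card K := by
  rw [← Nat.card_prod]
  refine (Nat.card_eq_of_bijective (fun p : H × K => (⟨p.1 * p.2, mul_mem_sup p.1.2 p.2.2⟩ : ↥(H ⊔ K)))
    ⟨?_, ?_⟩).symm
  · rintro ⟨a, b⟩ ⟨a', b'⟩ e
    have e1 : (a : G) * b = a' * b' := congrArg Subtype.val e
    have e2 : (a' : G)⁻¹ * a = b' * (b : G)⁻¹ := by
      rw [inv_mul_eq_iff_eq_mul, ← mul_assoc, ← e1, mul_inv_cancel_right]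
    have h1 : (a' : G)⁻¹ * a ∈ H ⊓ K :=
      mem_inf.2 ⟨mul_mem (inv_mem a'.2) a.2, e2 ▸ mul_mem b'.2 (inv_mem b.2)⟩
    rw [hi, mem_bot] at h1
    have ha : (a : G) = a' := (inv_mul_eq_one.1 h1).symm
    rw [ha, mul_right_inj] at e1
    exact Prod.ext (Subtype.ext ha) (Subtype.ext e1)
  · rintro ⟨x, hx⟩
    obtain ⟨a, ha, b, hb, rfl⟩ := (mem_sup_n h).1 hx
    exact ⟨(⟨a, ha⟩, ⟨b, hb⟩), rfl⟩

/-- the elements of `N(D)` fixing the coset of `r` -/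
def Fx (D : Subgroup G) (r : G) : Subgroup G where
  carrier := {g | g ∈ 𝒩(D) ∧ g * r * g⁻¹ * r⁻¹ ∈ D}
  one_mem' := ⟨one_mem _, by simp⟩
  mul_mem' := fun {g h} hg hh => ⟨mul_mem hg.1 hh.1, by
    have := mul_mem (conj_mem_of_mem_normalizer hg.1 hh.2) hg.2
    convert this using 1; group⟩
  inv_mem' := fun {g} hg => ⟨inv_mem hg.1, by
    have := conj_mem_of_mem_normalizer' hg.1 (inv_mem hg.2)
    convert this using 1; group⟩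

theorem mem_Fx : x ∈ Fx D r ↔ x ∈ 𝒩(D) ∧ x * r * x⁻¹ * r⁻¹ ∈ D := Iff.rfl

theorem closure_pair_le (hw : w ∈ H) (hw' : w' ∈ H) : closure {w, w'} ≤ H := by
  rw [closure_le]
  rintro x (rfl | rfl)
  · exact hw
  · exact hw'

theorem fix_closure (hw : w ∈ 𝒩(D)) (hw' : w' ∈ 𝒩(D)) (h : w * r * w⁻¹ * r⁻¹ ∈ D)
    (h' : w' * r * w'⁻¹ * r⁻¹ ∈ D) (hl : l ∈ closure {w, w'}) : l * r * l⁻¹ * r⁻¹ ∈ D :=
  (closure_pair_le (H := Fx D r) ⟨hw, h⟩ ⟨hw', h'⟩ hl).2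

theorem cnt_onto [Finite G] {D₁ D₂ : Subgroup G} (f : G → G) (hf : ∀ r ∈ X, f r ∈ Y)
    (hinj : ∀ r₁ ∈ X, ∀ r₂ ∈ X, (f r₁)⁻¹ * f r₂ ∈ D₂ → r₁⁻¹ * r₂ ∈ D₁)
    (hc : D₂.relIndex Y ≤ D₁.relIndex X) (hx : x ∈ Y) : ∃ r ∈ X, (f r)⁻¹ * x ∈ D₂ := by
  let φ : X ⧸ D₁.subgroupOf X → Y ⧸ D₂.subgroupOf Y := fun q =>
    QuotientGroup.mk ⟨f (Quotient.out q : X), hf _ (Quotient.out q).2⟩
  have hφ : Function.Injective φ := fun q₁ q₂ e => by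
    have e1 := QuotientGroup.eq.1 e
    rw [mem_subgroupOf] at e1
    have e2 := hinj _ (Quotient.out q₁).2 _ (Quotient.out q₂).2 e1
    rw [← QuotientGroup.out_eq' q₁, ← QuotientGroup.out_eq' q₂]
    exact QuotientGroup.eq.2 (mem_subgroupOf.2 e2)
  obtain ⟨q, hq⟩ := (hφ.bijective_of_nat_card_le hc).2 (QuotientGroup.mk ⟨x, hx⟩)
  have e1 := QuotientGroup.eq.1 hq
  rw [mem_subgroupOf] at e1
  exact ⟨_, (Quotient.out q).2, e1⟩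

theorem relIndex_le [Finite G] {D₁ D₂ : Subgroup G} (h1 : D₁ ≤ X) (h2 : D₂ ≤ Y)
    (hc : Nat.card X = Nat.card Y) (hd : Nat.card D₁ = Nat.card D₂) :
    D₂.relIndex Y ≤ D₁.relIndex X := by
  have e1 := card_mul_relIndex' h1
  have e2 := card_mul_relIndex' h2
  rw [hc, hd, ← e2] at e1
  exact (Nat.eq_of_mul_eq_mul_left Nat.card_pos e1).ge

theorem two_zpowers (hT : IsPGroup 2 T) (h2 : c * c ∈ T) : IsPGroup 2 (zpowers c) := by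
  obtain ⟨k, hk⟩ := isPGroup_iff_mem.1 hT _ h2
  refine isPGroup_zpowers_of_pow (k := k + 1) ?_
  rw [pow_succ', pow_mul, sq, hk]

theorem two_sup (hT : IsPGroup 2 T) (hc : c ∈ 𝒩(T)) (h2 : c * c ∈ T) :
    IsPGroup 2 ↥(T ⊔ zpowers c) :=
  hT.to_sup_of_normal_left' (two_zpowers hT h2) (zpowers_le.2 hc)

theorem mem_C_iff : x ∈ 𝒞(H) ↔ ∀ h ∈ H, h * x = x * h := mem_centralizer_iff

theorem C_le_N (H : Subgroup G) : 𝒞(H) ≤ 𝒩(H) := centralizer_le_normalizer _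

theorem cj_of_C (h : x ∈ 𝒞(H)) : cj x H = H := mem_normalizer_iff_cj.1 (C_le_N H h)

theorem cj_of_N (h : x ∈ 𝒩(H)) : cj x H = H := mem_normalizer_iff_cj.1 h

theorem N_le_NC (H : Subgroup G) : 𝒩(H) ≤ 𝒩(𝒞(H)) := fun g hg => by
  rw [mem_normalizer_iff_cj, cj_centralizer, cj_of_N hg]

theorem N_inf (h : x ∈ 𝒩(H)) (k : x ∈ 𝒩(K)) : x ∈ 𝒩(H ⊓ K) :=
  inf_normalizer_le_normalizer_inf (mem_inf.2 ⟨h, k⟩)

theorem N_sup (h : x ∈ 𝒩(H)) (k : x ∈ 𝒩(K)) : x ∈ 𝒩(H ⊔ K) :=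
  normalizer_inf_normalizer_le_normalizer_sup H K (mem_inf.2 ⟨h, k⟩)

/-- `⁅u, v⁆ ∈ H` when `u ∈ H` and `v` normalizes `H` -/
theorem comm_mem_l {u v : G} (hu : u ∈ H) (hv : v ∈ 𝒩(H)) : ⁅u, v⁆ ∈ H := by
  have := mul_mem hu (conj_mem_of_mem_normalizer hv (inv_mem hu))
  rw [commutatorElement_def]; convert this using 1; group

theorem comm_mem_r {u v : G} (hu : u ∈ 𝒩(H)) (hv : v ∈ H) : ⁅u, v⁆ ∈ H := by
  rw [← commutatorElement_inv]; exact inv_mem (comm_mem_l hv hu)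

theorem conj_comm (g u v : G) : g * ⁅u, v⁆ * g⁻¹ = ⁅g * u * g⁻¹, g * v * g⁻¹⁆ := by
  simp only [commutatorElement_def]; group

/-- `⁅x, t w⁆ = ⁅x, w⁆ ^ t` when `t` centralizes `x` -/
theorem comm_mul_of {t : G} (h : x * t = t * x) : ⁅x, t * w⁆ = t * ⁅x, w⁆ * t⁻¹ := by
  simp only [commutatorElement_def, ← mul_assoc, h, _root_.mul_inv_rev]

theorem conj_eq_of {t : G} (h : x * t = t * x) : t * x * t⁻¹ = x := by
  rw [← h, mul_inv_cancel_right]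

end CfsgLib.LnS.Ty
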