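import Cfsg.Agent.Lib.LnS.Sc
import Cfsg.Agent.Lib.LnS.TyX

/-! Commuting conjugates of `Z`: the first type (plans/SYL2.md). -/

set_option autoImplicit false
set_option linter.unusedSectionVars false

namespace CfsgLib.LnS
open Subgroup Matrix Cfsg CfsgLib.Tech CfsgLib.PComp CfsgLib.LnS.Ty
open scoped commutatorElement CfsgLib.BG

namespace Fr

universe u
variable {G : Type u} [Group G] [Finite G] {F : Type*} [Field F] {m : ℕ} {P P' P'' : Fr G F m}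
  {s t u v w x y z n : G} {R T U X H M : Subgroup G}

theorem ty_exists_Z (P : Fr G F m) : ∃ z ∈ P.Z, z ≠ 1 := by
  obtain ⟨z, hz, -, -, h, -⟩ := P.exists_two_Z
  exact ⟨z, hz, h⟩

theorem ty_ne_bot (h : P'.Z ≤ X) : P'.Z ⊓ X ≠ ⊥ := fun e => by
  obtain ⟨z, hz, h1⟩ := P'.ty_exists_Z
  exact h1 (mem_bot.1 (e ▸ mem_inf.2 ⟨hz, h hz⟩))

theorem ty_eq_Z (h : P'.Z ≤ P.Z) : P'.Z = P.Z := eq_of_le_of_card_ge h (by rw [card_Z, card_Z])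
theorem ty_eq_A (h : P'.A ≤ P.A) : P'.A = P.A := eq_of_le_of_card_ge h (by rw [card_A, card_A])
theorem ty_eq_B (h : P'.B ≤ P.B) : P'.B = P.B := eq_of_le_of_card_ge h (by rw [card_B, card_B])

theorem ty_S_nZ (P : Fr G F m) : P.S ≤ 𝒩(P.Z) := P.S_cZ.trans (C_le_N _)

theorem ty_comm_Z (hz : z ∈ P.Z) (hs : s ∈ P.S) : z * s = s * z := mem_C_iff.1 (P.S_cZ hs) z hz

theorem ty_sqZ (hz : z ∈ P.Z) : z * z = 1 := sqA (P.Z_le_A hz)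

theorem ty_two (h : R ≤ P.S) : IsPGroup 2 R := P.two_S.to_le h

theorem ty_cjZ {g : G} (hg : g ∈ 𝒞(P.Z)) : (P.cj g).Z = P.Z := by rw [cj_Z, cj_of_C hg]

theorem ty_conjQ {g : G} (hc : P.Cj P') (hZ : Tech.cj g P'.Z = P.Z) (hx : x ∈ P'.Q)
    (hs : g * x * g⁻¹ ∈ P.S) : g * x * g⁻¹ ∈ P.Q :=
  sc_Q (hc.trans (P'.cj_cj' g)) (by rw [cj_Z, hZ])
    (mem_inf.2 ⟨by rw [cj_Q]; exact conj_mem_cj.2 hx, hs⟩)

theorem ty_conjA {g : G} (hc : P.Cj P') (hZ : Tech.cj g P'.Z = P.Z) (hx : x ∈ P'.A)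
    (hs : g * x * g⁻¹ ∈ P.S) : g * x * g⁻¹ ∈ P.A :=
  sc_A (hc.trans (P'.cj_cj' g)) (by rw [cj_Z, hZ])
    (mem_inf.2 ⟨by rw [cj_A]; exact conj_mem_cj.2 hx, hs⟩)

theorem ty_conjB {g : G} (hc : P.Cj P') (hZ : Tech.cj g P'.Z = P.Z) (hx : x ∈ P'.B)
    (hs : g * x * g⁻¹ ∈ P.S) : g * x * g⁻¹ ∈ P.B :=
  sc_B (hc.trans (P'.cj_cj' g)) (by rw [cj_Z, hZ])
    (mem_inf.2 ⟨by rw [cj_B]; exact conj_mem_cj.2 hx, hs⟩)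

theorem ty_c_comm (hx : x ∈ P.Q) (hy : y ∈ P.Q) :
    P.c ⁅x, y⁆ = P.a x ⬝ᵥ P.b y + P.a y ⬝ᵥ P.b x := by
  rw [commutatorElement_def, P.c_mul (conj_mem_Q hx.1 hy).1 (inv_mem hy.1), c_conj hx.1 hy,
    a_conj hx.1 hy, (inv_mem hx).2, vecMul_one, c_inv hy.1, b_invQ hx, b_invQ hy]
  linear_combination P.ch (P.c y) + P.ch (P.a y ⬝ᵥ P.b y)

theorem ty_Z_ext {z' : G} (hz : z ∈ P.Z) (hz' : z' ∈ P.Z) (h : P.c z = P.c z') : z = z' := by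
  rw [mem_Z] at hz hz'
  exact P.inj hz.1.1 hz'.1.1 (hz.2.1.trans hz'.2.1.symm) (hz.1.2.trans hz'.1.2.symm)
    (hz.2.2.trans hz'.2.2.symm) h

theorem ty_comm_iff (hx : x ∈ P.Q) (hy : y ∈ P.Q) :
    x * y = y * x ↔ P.a x ⬝ᵥ P.b y + P.a y ⬝ᵥ P.b x = 0 := by
  rw [← ty_c_comm hx hy, ← commutatorElement_eq_one_iff_mul_comm]
  exact ⟨fun e => by rw [e, P.c_one], fun e => ty_Z_ext (comm_Q hx hy) (one_mem _) (e.trans P.c_one.symm)⟩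

theorem ty_exists_A {β : Fin m → F} (hb : β ≠ 0) (ω : F) : ∃ w ∈ P.A, P.a w ⬝ᵥ β = ω := by
  obtain ⟨i, hi⟩ := Function.ne_iff.1 hb
  obtain ⟨w, hw, e1, e2, e3, -⟩ := P.surj (Pi.single i (ω / β i)) 1 0 0 tri_one
  exact ⟨w, ⟨⟨hw, e2⟩, e3⟩, by rw [e1, single_dotProduct, div_mul_cancel₀ _ hi]⟩

theorem ty_exists_B {α : Fin m → F} (ha : α ≠ 0) (ω : F) : ∃ w ∈ P.B, α ⬝ᵥ P.b w = ω := by
  obtain ⟨i, hi⟩ := Function.ne_iff.1 ha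
  obtain ⟨w, hw, e1, e2, e3, -⟩ := P.surj 0 1 (Pi.single i (ω / α i)) 0 tri_one
  exact ⟨w, ⟨⟨hw, e2⟩, e1⟩, by rw [e3, dotProduct_single, mul_div_cancel₀ _ hi]⟩

theorem ty_exists_om (P : Fr G F m) : ∃ ω : F, ω ≠ 0 ∧ ω ≠ 1 := by
  obtain ⟨z, hz, z', hz', h1, h1', hne⟩ := P.exists_two_Z
  have e : ∀ z ∈ P.Z, z ≠ 1 → P.c z ≠ 0 := fun z hz h1 e =>
    h1 (ty_Z_ext hz (one_mem _) (e.trans P.c_one.symm))
  by_cases h : P.c z = 1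
  · exact ⟨_, e z' hz' h1', fun k => hne (ty_Z_ext hz hz' (h.trans k.symm))⟩
  · exact ⟨_, e z hz h1, h⟩

theorem Pair.two (h : Pair P P' T) : IsPGroup 2 T := h.syl.pgroup
theorem Pair.T_c (h : Pair P P' T) : T ≤ 𝒞(P.Z) := h.le.trans P.S_cZ
theorem Pair.T_c' (h : Pair P P' T) : T ≤ 𝒞(P'.Z) := h.le'.trans P'.S_cZ

theorem Pair.zinf (h : Pair P P' T) : P.Z ⊓ P'.Z = ⊥ := by
  by_contra e
  exact h.ne (Z_eq h.cj (h.Z_le'.trans h.T_c) e)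

theorem Pair.eq_one (h : Pair P P' T) (hx : x ∈ P.Z) (hx' : x ∈ P'.Z) : x = 1 :=
  mem_bot.1 (h.zinf ▸ mem_inf.2 ⟨hx, hx'⟩)

/-- (C) -/
theorem Pair.memC (h : Pair P P' T) (hy : y ∈ P'.Z) (h1 : y ≠ 1) (hs : s ∈ P.S)
    (e : s * y = y * s) : s ∈ T :=
  h.mem_T hs (ti P.two_S (h.Z_le'.trans h.le) hy h1 hs e)

theorem Pair.inf_le (h : Pair P P' T) (hs : s ∈ P.S) (hs' : s ∈ P'.S) : s ∈ T :=
  h.mem_T hs (P'.S_cZ hs')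

theorem Pair.comm' (h : Pair P P' T) (hy : y ∈ P'.Z) (ht : t ∈ T) : y * t = t * y :=
  ty_comm_Z hy (h.le' ht)

theorem Pair.half (h : Pair P P' T) (h1 : P'.Z ⊓ P.Q ≠ ⊥) : P'.Z ≤ P.Q := by
  obtain ⟨⟨y₀, hy₀⟩, hne⟩ := (ne_bot_iff_exists_ne_one).1 h1
  have hne' : y₀ ≠ 1 := fun e => hne (Subtype.ext e)
  intro y hy
  refine hyper hy₀.2 (h.le (h.Z_le' hy)) fun u hu e => ?_
  rw [commutatorElement_eq_one_iff_mul_comm.2 (h.comm' hy (h.memC hy₀.1 hne' hu.1 e)).symm]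
  exact one_mem _

theorem Pair.W_sup (h : Pair P P' T) (hQ : P'.Z ≤ P.Q) (hy : y ∈ P'.Z) (h1 : y ≠ 1) :
    P.W y = P.Z ⊔ P'.Z := by
  refine (eq_of_le_of_card_ge (sup_le (P.Z_le_W y) fun x hx => cent_cent (hQ hy) (hQ hx)
    fun u hu e => (h.comm' hx (h.memC hy h1 hu.1 e)).symm) ?_).symm
  rw [card_W (hQ hy) fun k => h1 (h.eq_one k hy),
    card_sup_n ((h.Z_le'.trans h.T_c).trans (C_le_N _)) h.zinf, card_Z, card_Z, sq]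

theorem Pair.mem_ZZ (h : Pair P P' T) :
    x ∈ P.Z ⊔ P'.Z ↔ ∃ z ∈ P.Z, ∃ y ∈ P'.Z, z * y = x :=
  mem_sup_n ((h.Z_le'.trans h.T_c).trans (C_le_N _))

theorem Pair.le_Q (h : Pair P P' T) (h1 : P'.Z ⊓ P.Q ≠ ⊥) : P'.Z ≤ P.Q ∧ P.Z ≤ P'.Q := by
  have hQ := h.half h1
  refine ⟨hQ, h.symm.half fun h2 => ?_⟩
  have one : ∀ x ∈ P.Z, x ∈ P'.Q → x = 1 := fun x a b => mem_bot.1 (h2 ▸ mem_inf.2 ⟨a, b⟩)
  obtain ⟨y₀, hy₀, hy1⟩ := P'.ty_exists_Z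
  -- `Q ∩ Q' ≤ Z'`
  have hD : ∀ x ∈ P.Q, x ∈ P'.Q → x ∈ P'.Z := fun x hx hx' => by
    have hW : x ∈ P.W y₀ := cent_cent (hQ hy₀) hx fun u hu e =>
      commutatorElement_eq_one_iff_mul_comm.1 (one _ (comm_Q hu hx)
        (comm_mem_r (P'.S_nQ (h.le' (h.memC hy₀ hy1 hu.1 e))) hx'))
    rw [h.W_sup hQ hy₀ hy1, h.mem_ZZ] at hW
    obtain ⟨z, hz, y, hy, rfl⟩ := hW
    have := mul_mem hx' (inv_mem (P'.Z_le_Q hy))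
    rw [mul_inv_cancel_right] at this
    rwa [one z hz this, one_mul]
  have hC : ∀ s ∈ P.Q, s ∈ T → ∀ r ∈ P'.Q, r ∈ T → ⁅s, r⁆ ∈ P'.Z := fun s hs hsT r hr hrT =>
    hD _ (comm_mem_l hs (P.S_nQ (h.le hrT))) (comm_mem_r (P'.S_nQ (h.le' hsT)) hr)
  obtain ⟨u, hu, v, hv, eu, ev, hne⟩ := exists_ncomm (hQ hy₀)
  have huT := h.memC hy₀ hy1 hu.1 eu
  have hvT := h.memC hy₀ hy1 hv.1 ev
  have hz : ⁅u, v⁆ ∈ P.Z := comm_Q hu hv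
  have hz1 : ⁅u, v⁆ ≠ 1 := fun e => hne (commutatorElement_eq_one_iff_mul_comm.1 e)
  have key : ∀ x ∈ P'.Q, ∀ s ∈ P.Q, s ∈ T → x⁻¹ * (s * x * s⁻¹) ∈ T := fun x hx s hs hsT => by
    have hm : x⁻¹ * (s * x * s⁻¹) ∈ P'.Q := mul_mem (inv_mem hx) (conj_mem_Q (h.le' hsT) hx)
    refine h.symm.memC hz hz1 hm.1 (perp (h.le' (h.Z_le hz)) (ty_sqZ hz) hm fun r hr e => ?_)
    have hrT := h.symm.memC hz hz1 hr.1 e
    have h3 := hC _ (inv_mem hs) (inv_mem hsT) _ (inv_mem hr) (inv_mem hrT)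
    have h4 := ty_comm_Z (inv_mem h3) (inv_mem hx).1
    have h5 := h.comm' (comm_Q hx hr) hsT
    have e1 : s * x * s⁻¹ * r * (s * x * s⁻¹)⁻¹ = x * r * x⁻¹ :=
      calc _ = s * (x * r * (⁅s⁻¹, r⁻¹⁆⁻¹ * x⁻¹)) * s⁻¹ := by
            simp only [commutatorElement_def]; group
        _ = s * ⁅x, r⁆ * (r * ⁅s⁻¹, r⁻¹⁆⁻¹) * s⁻¹ := by
            rw [h4]; simp only [commutatorElement_def]; group
        _ = _ := by rw [← h5]; simp only [commutatorElement_def]; group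
    calc r * (x⁻¹ * (s * x * s⁻¹)) = x⁻¹ * (x * r * x⁻¹) * (s * x * s⁻¹) := by group
      _ = _ := by rw [← e1]; group
  refine hz1 (one _ hz (mem_Q_of_A (h.le' (h.Z_le hz)) fun x hx => ?_))
  have hx := P'.A_le_Q hx
  have hx1 : (v * u)⁻¹ * x * (v * u)⁻¹⁻¹ ∈ P'.Q :=
    conj_mem_Q (inv_mem (h.le' (mul_mem hvT huT))) hx
  have r1T := key _ hx1 v hv hvT
  have r2T := key _ hx1 u hu huT
  have r1Q := mul_mem (inv_mem hx1) (conj_mem_Q (h.le' hvT) hx1)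
  have r2Q := mul_mem (inv_mem hx1) (conj_mem_Q (h.le' huT) hx1)
  have n1 := conj_mem_of_mem_normalizer' (P'.ty_S_nZ r2Q.1) (inv_mem (hC v hv hvT _ r2Q r2T))
  have n2 := comm_Q (inv_mem r2Q) (inv_mem r1Q)
  have n3 := conj_mem_of_mem_normalizer' (P'.ty_S_nZ r1Q.1) (hC u hu huT _ r1Q r1T)
  have := conj_mem_of_mem_normalizer (P'.ty_S_nZ hx.1) (inv_mem (mul_mem (mul_mem n1 n2) n3))
  convert this using 1
  simp only [commutatorElement_def]; group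

/-- conclusion for `Z' ≤ A` -/
structure TyA (P P' : Fr G F m) : Prop where
  le : P'.Z ≤ P.A
  eq : P'.A = P.A
  inf : P.Q ⊓ P'.Q = P.A
  fix : ∀ y ∈ P'.Z, ∀ s ∈ P.S, ⁅y, s⁆ ∈ P.Z
  line : ∀ y ∈ P'.Z, y ≠ 1 → ∀ x ∈ P.W y, x ∈ P.Z ∨ ∃ w ∈ P.B, w * x * w⁻¹ ∈ P'.Z

/-- a pair of the first type -/
structure Pair1 (P P' : Fr G F m) (T : Subgroup G) : Prop where
  p : Pair P P' T
  q : P'.Z ≤ P.Q
  q' : P.Z ≤ P'.Q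

namespace Pair1

theorem symm (h : Pair1 P P' T) : Pair1 P' P T := ⟨h.p.symm, h.q', h.q⟩

theorem dual (h : Pair1 P P' T) : Pair1 P.dual P'.dual T :=
  ⟨h.p.dual, by rw [dual_Z, dual_Q]; exact h.q, by rw [dual_Z, dual_Q]; exact h.q'⟩

theorem W_le (h : Pair1 P P' T) : P.Z ⊔ P'.Z ≤ P.Q ⊓ P'.Q :=
  sup_le (le_inf P.Z_le_Q h.q') (le_inf h.q P'.Z_le_Q)

theorem nW (h : Pair1 P P' T) : P.Q ≤ 𝒩(P.Z ⊔ P'.Z) :=
  Q_norm le_sup_left (h.W_le.trans inf_le_left)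

theorem nW' (h : Pair1 P P' T) : P'.Q ≤ 𝒩(P.Z ⊔ P'.Z) := sup_comm P'.Z P.Z ▸ h.symm.nW

theorem nD (h : Pair1 P P' T) : P.Q ≤ 𝒩(P.Q ⊓ P'.Q) :=
  Q_norm (le_sup_left.trans h.W_le) inf_le_left

theorem nD' (h : Pair1 P P' T) : P'.Q ≤ 𝒩(P.Q ⊓ P'.Q) := inf_comm P'.Q P.Q ▸ h.symm.nD

theorem commW (h : Pair1 P P' T) (hx : x ∈ P.Z ⊔ P'.Z) (ht : t ∈ T) : x * t = t * x :=
  (mem_C_iff.1 (sup_le (le_centralizer_iff.1 h.p.T_c) (le_centralizer_iff.1 h.p.T_c') hx) t ht).symm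

theorem nT (h : Pair1 P P' T) : P.Q ≤ 𝒩(T) := fun u hu => by
  have e : T = P.S ⊓ 𝒞(P.Z ⊔ P'.Z) := le_antisymm
    (le_inf h.p.le fun t ht => mem_C_iff.2 fun x hx => h.commW hx ht)
    fun s hs => h.p.mem_T hs.1 (mem_C_iff.2 fun x hx => mem_C_iff.1 hs.2 x (mem_sup_right hx))
  rw [e]
  exact N_inf (le_normalizer hu.1) (N_le_NC _ (h.nW hu))

theorem D_le (h : Pair1 P P' T) : P.Q ⊓ P'.Q ≤ T := fun _ hx => h.p.inf_le hx.1.1 hx.2.1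

theorem onto (h : Pair1 P P' T) (hw : w ∈ P.Q) (hT : w ∉ T) (hz : z ∈ P.Z) :
    ∃ x ∈ P.Z ⊔ P'.Z, ⁅x, w⁆ = z := by
  obtain ⟨y, hy, h1⟩ := P'.ty_exists_Z
  rw [← h.p.W_sup h.q hy h1]
  exact onto_Z hw.1 (h.q hy) (comm_Q (h.q hy) hw)
    (fun e => hT (h.p.memC hy h1 hw.1 (commutatorElement_eq_one_iff_mul_comm.1 e).symm)) hz

theorem cj_le (h : Pair1 P P' T) {g w₁ : G} (ho : ∀ z ∈ X, ∃ x ∈ P.Z ⊔ P'.Z, ⁅x, w₁⁆ = z)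
    (hg : g ∈ 𝒩(P.Z ⊔ P'.Z)) (hw : w ∈ P.Q) (e : g * w₁ * g⁻¹ * w⁻¹ ∈ T) :
    Tech.cj g X ≤ P.Z := cj_le_iff.2 fun z hz => by
  obtain ⟨x, hx, rfl⟩ := ho z hz
  have hx' := conj_mem_of_mem_normalizer hg hx
  rw [conj_comm, ← inv_mul_cancel_right (g * w₁ * g⁻¹) w, comm_mul_of (h.commW hx' e)]
  exact conj_mem_of_mem_normalizer (P.ty_S_nZ (h.p.le e)) (comm_Q (h.W_le hx').1 hw)

theorem exists_l (h : Pair1 P P' T) {w' : G} (hw : w ∈ P.Q) (hT : w ∉ T) (hw' : w' ∈ P'.Q)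
    (hT' : w' ∉ T) : ∃ l ∈ closure {w, w'}, l * w' * l⁻¹ * w⁻¹ ∈ T ∧ Tech.cj l P'.Z = P.Z := by
  have hL : closure {w, w'} ≤ 𝒩(P.Z ⊔ P'.Z) := Ty.closure_pair_le (h.nW hw) (h.nW' hw')
  have ho' : ∀ z ∈ P'.Z, ∃ x ∈ P.Z ⊔ P'.Z, ⁅x, w'⁆ = z := fun z hz =>
    sup_comm P'.Z P.Z ▸ h.symm.onto hw' hT' hz
  rcases dih (h.nT hw) (h.symm.nT hw') (h.p.Z_le (sq_Q hw)) (h.p.Z_le' (sq_Q hw')) with
    ⟨l, hl, e⟩ | ⟨c, hc, hcT, h2, e, e'⟩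
  · exact ⟨l, hl, e, eq_of_le_of_card_ge (h.cj_le ho' (hL hl) hw e)
      (by rw [card_cj, card_Z, card_Z])⟩
  · have hz := two_zpowers h.p.two h2
    have n1 := mem_normalizer_of_cj_le (h.cj_le (fun z hz => h.onto hw hT hz) (hL hc) hw e)
    have n2 := mem_normalizer_of_cj_le (h.symm.cj_le (fun z hz => h.symm.onto hw' hT' hz)
      (sup_comm P.Z P'.Z ▸ hL hc) hw' e')
    exact absurd (h.p.syl.le_of_normalizes hz (le_inf (P.cent_of_two hz (zpowers_le.2 n1))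
      (P'.cent_of_two hz (zpowers_le.2 n2))) (zpowers_le.2
        (Ty.closure_pair_le (h.nT hw) (h.symm.nT hw') hc)) (mem_zpowers c)) hcT

theorem exists_w (h : Pair1 P P' T) : ∃ w ∈ P.Q, w ∉ T := by
  by_contra! e
  obtain ⟨y, hy, h1⟩ := P'.ty_exists_Z
  exact h1 (h.p.eq_one (cent_Q (h.q hy).1 fun u hu => (h.p.comm' hy (e u hu)).symm) hy)

theorem decomp (h : Pair1 P P' T) (hw : w ∈ P.Q) (hT : w ∉ T) (hv : v ∈ P.Q) (hvT : v ∈ T) :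
    ∃ r ∈ T, ∃ d ∈ P.Q ⊓ P'.Q, v = ⁅r, w⁆ * d := by
  obtain ⟨w', hw', hT'⟩ := h.symm.exists_w
  obtain ⟨l, hl, -, hZ⟩ := h.exists_l hw hT hw' hT'
  have hlT : l ∈ 𝒩(T) := Ty.closure_pair_le (h.nT hw) (h.symm.nT hw') hl
  have hlD : l ∈ 𝒩(P.Q ⊓ P'.Q) := Ty.closure_pair_le (h.nD hw) (h.nD' hw') hl
  have h1 : ∀ r ∈ P'.Q ⊓ T, l * r * l⁻¹ ∈ P.Q ⊓ T := fun r hr =>
    have := conj_mem_of_mem_normalizer hlT hr.2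
    mem_inf.2 ⟨ty_conjQ h.p.cj hZ hr.1 (h.p.le this), this⟩
  have hc : Tech.cj l (P'.Q ⊓ T) = P.Q ⊓ T := le_antisymm (cj_le_iff.2 h1) (le_cj_iff.2 fun r hr => by
    have := conj_mem_of_mem_normalizer (inv_mem hlT) hr.2
    have := mem_inf.2 ⟨ty_conjQ h.p.cj.symm (by rw [← hZ, cj_inv_cj]) hr.1 (h.p.le' this), this⟩
    rwa [inv_inv] at this)
  obtain ⟨r, hr, e⟩ := cnt_onto (X := P'.Q ⊓ T) (Y := P.Q ⊓ T) (D₁ := P.Q ⊓ P'.Q)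
    (D₂ := P.Q ⊓ P'.Q) (fun r => ⁅r, w⁆)
    (fun r hr => mem_inf.2 ⟨comm_mem_r (P.S_nQ (h.p.le hr.2)) hw, comm_mem_l hr.2 (h.nT hw)⟩)
    (fun r₁ h₁ r₂ h₂ e => by
      have hρ := mul_mem (inv_mem h₁) h₂
      have e1 : w⁻¹ * (r₁⁻¹ * r₂) * w⁻¹⁻¹ * (r₁⁻¹ * r₂)⁻¹ ∈ P.Q ⊓ P'.Q := by
        have := conj_mem_of_mem_normalizer' (mul_mem (h.nD hw) (h.nD' h₁.1)) e
        convert this using 1
        simp only [commutatorElement_def]; group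
      have e2 : w ∈ Fx (P.Q ⊓ P'.Q) (r₁⁻¹ * r₂) := inv_mem_iff.1 ⟨inv_mem (h.nD hw), e1⟩
      have e3 := fix_closure e2.1 (h.nD' hw') e2.2
        ((le_sup_right.trans h.W_le) (comm_Q hw' hρ.1)) hl
      have e4 := mul_mem (inv_mem (mem_inf.1 e3).1) (mem_inf.1 (h1 _ hρ)).1
      exact mem_inf.2 ⟨by convert e4 using 1; group, hρ.1⟩)
    (relIndex_le (le_inf inf_le_right h.D_le) (le_inf inf_le_left h.D_le)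
      (by rw [← hc, card_cj]) rfl) (mem_inf.2 ⟨hv, hvT⟩)
  exact ⟨r, hr.2, _, e, by group⟩

theorem H_nT (h : Pair1 P P' T) : P.Q ⊔ P'.Q ≤ 𝒩(T) := sup_le h.nT h.symm.nT
theorem H_nW (h : Pair1 P P' T) : P.Q ⊔ P'.Q ≤ 𝒩(P.Z ⊔ P'.Z) := sup_le h.nW h.nW'
theorem H_nD (h : Pair1 P P' T) : P.Q ⊔ P'.Q ≤ 𝒩(P.Q ⊓ P'.Q) := sup_le h.nD h.nD'

theorem H_fix (h : Pair1 P P' T) {g d : G} (hg : g ∈ P.Q ⊔ P'.Q) (hd : d ∈ P.Q ⊓ P'.Q) :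
    g * d * g⁻¹ * d⁻¹ ∈ P.Z ⊔ P'.Z :=
  ((sup_le (fun _ hu => ⟨h.nW hu, mem_sup_left (comm_Q hu hd.1)⟩)
    (fun _ hu => ⟨h.nW' hu, mem_sup_right (comm_Q hu hd.2)⟩) :
      P.Q ⊔ P'.Q ≤ Fx (P.Z ⊔ P'.Z) d) hg).2

theorem le_or (h : Pair1 P P' T) : P'.Z ≤ P.A ∨ P'.Z ≤ P.B := by
  obtain ⟨y, hy, h1⟩ := P'.ty_exists_Z
  have hyQ := h.q hy
  have hW := h.p.W_sup h.q hy h1
  by_cases hb : P.b y = 0
  · exact Or.inl ((le_sup_right.trans hW.ge).trans (W_le_A ⟨hyQ, hb⟩))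
  by_cases ha : P.a y = 0
  · exact Or.inr ((le_sup_right.trans hW.ge).trans (W_le_B ⟨hyQ, ha⟩))
  exfalso
  obtain ⟨ω, h0, hω⟩ := P.ty_exists_om
  obtain ⟨w₁, hw₁, e₁⟩ := ty_exists_A (P := P) hb 1
  obtain ⟨w₂, hw₂, e₂⟩ := ty_exists_A (P := P) hb ω
  obtain ⟨vB, hvB, e₃⟩ := ty_exists_B (P := P) ha 1
  have nT : ∀ w ∈ P.A, P.a w ⬝ᵥ P.b y ≠ 0 → w ∉ T := fun w hw e k => e (by
    have := (ty_comm_iff hyQ hw.1).1 (h.p.comm' hy k)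
    rwa [hw.2, dotProduct_zero, zero_add] at this)
  have hT₁ := nT w₁ hw₁ (by rw [e₁]; exact one_ne_zero)
  have hT₂ := nT w₂ hw₂ (by rw [e₂]; exact h0)
  obtain ⟨w', hw', hT'⟩ := h.symm.exists_w
  obtain ⟨l₁, hl₁, t₁, hZ₁⟩ := h.exists_l hw₁.1 hT₁ hw' hT'
  obtain ⟨l₂, hl₂, t₂, hZ₂⟩ := h.exists_l hw₂.1 hT₂ hw' hT'
  have hl₁ := Ty.closure_pair_le (mem_sup_left hw₁.1) (mem_sup_right hw') hl₁
  have hl₂ := Ty.closure_pair_le (mem_sup_left hw₂.1) (mem_sup_right hw') hl₂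
  obtain ⟨g, hg, hgZ, hgw⟩ : ∃ g ∈ P.Q ⊔ P'.Q, Tech.cj g P.Z = P.Z ∧ g * w₁ * g⁻¹ * w₂⁻¹ ∈ T := by
    have hg := mul_mem hl₂ (inv_mem hl₁)
    refine ⟨_, hg, by rw [cj_mul, ← hZ₁, cj_inv_cj, hZ₂, hZ₁], ?_⟩
    have := mul_mem (conj_mem_of_mem_normalizer (h.H_nT hg) (inv_mem t₁)) t₂
    convert this using 1; group
  obtain ⟨yA, hyA, yB, hyB, ey⟩ := exists_AB hyQ
  have hay : P.a y = P.a yA := by rw [ey, a_mulQ hyA.1.1 hyB.1, hyB.2, add_zero]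
  have hyy : P.a y ⬝ᵥ P.b y = 0 := by
    have := P.c_mul hyQ.1 hyQ.1
    rw [ty_sqZ hy, P.c_one, P.ch, zero_add] at this
    exact this.symm
  have hyAT : yA ∈ T := h.p.memC hy h1 hyA.1.1 ((ty_comm_iff hyA.1 hyQ).2 (by
    rw [hyA.2, ← hay, hyy, dotProduct_zero, add_zero]))
  have hyBT : yB ∈ T := by
    have := mul_mem (inv_mem hyAT) (h.p.Z_le' hy)
    rwa [ey, inv_mul_cancel_left] at this
  have hv := mul_mem hw₁.1 hvB.1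
  have hbv : P.b (w₁ * vB) = P.b vB := by rw [b_mulQ hw₁.1 hvB.1.1, hw₁.2, zero_add]
  have hvT : w₁ * vB ∈ T := h.p.memC hy h1 hv.1 ((ty_comm_iff hv hyQ).2 (by
    rw [hbv, a_mulQ hw₁.1.1 hvB.1, hvB.2, add_zero, e₁, e₃, P.ch]))
  obtain ⟨r, hr, d, hd, ed⟩ := h.decomp hw₁.1 hT₁ hv hvT
  have hrA : ⁅r, w₁⁆ ∈ P.A := comm_mem_r (P.S_nA (h.p.le hr)) hw₁
  have hbd : P.b d = P.b vB := by rw [← hbv, ed, b_mulQ hrA.1 hd.1.1, hrA.2, zero_add]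
  have E : ⁅yA, d⁆ = ⁅y, w₁⁆ := ty_Z_ext (comm_Q hyA.1 hd.1) (comm_Q hyQ hw₁.1) (by
    rw [ty_c_comm hyA.1 hd.1, ty_c_comm hyQ hw₁.1, hyA.2, hw₁.2, hbd, ← hay, e₃, e₁]; simp)
  have gA : g * yA * g⁻¹ ∈ P.A := ty_conjA (Cj.refl P) hgZ hyA
    (h.p.le (conj_mem_of_mem_normalizer (h.H_nT hg) hyAT))
  have gB : g * yB * g⁻¹ ∈ P.B := ty_conjB (Cj.refl P) hgZ hyB
    (h.p.le (conj_mem_of_mem_normalizer (h.H_nT hg) hyBT))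
  have gy := conj_mem_of_mem_normalizer (h.H_nW hg) (mem_sup_right hy)
  have gyZ : g * y * g⁻¹ ∉ P.Z := fun k => h1 (h.p.eq_one (conj_mem_cj.1 (hgZ.symm ▸ k)) hy)
  have gd := h.H_fix hg hd
  have gdD := conj_mem_of_mem_normalizer (h.H_nD hg) hd
  have E2 : ⁅g * yA * g⁻¹, g * d * g⁻¹⁆ = ⁅g * y * g⁻¹, w₂⁆ := by
    rw [← conj_comm, E, conj_comm, ← inv_mul_cancel_right (g * w₁ * g⁻¹) w₂,
      comm_mul_of (h.commW gy hgw),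
      conj_eq_of (ty_comm_Z (comm_Q (h.W_le gy).1 hw₂.1) (h.p.le hgw))]
  rw [← hW] at gy gd
  obtain ⟨gyQ, ρ, ρa, ρb⟩ := gy
  obtain ⟨gdQ, μ, -, μb⟩ := gd
  have hρ : ρ ≠ 0 := fun k => gyZ (mem_Z.2 ⟨gyQ, by rw [ρa, k, zero_smul], by rw [ρb, k, zero_smul]⟩)
  have ea : P.a (g * yA * g⁻¹) = ρ • P.a y := by
    rw [← ρa, show g * y * g⁻¹ = g * yA * g⁻¹ * (g * yB * g⁻¹) by rw [ey]; group,
      a_mulQ gA.1.1 gB.1, gB.2, add_zero]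
  have eb : P.b (g * d * g⁻¹) = μ • P.b y + P.b vB := by
    rw [← μb, ← hbd, ← b_mulQ gdQ hd.1.1, inv_mul_cancel_right]
  have E3 := congrArg P.c E2
  rw [ty_c_comm gA.1 gdD.1, ty_c_comm gyQ hw₂.1, gA.2, hw₂.2, ea, eb, ρb, smul_dotProduct,
    dotProduct_add, dotProduct_smul, dotProduct_smul, hyy, e₃, e₂] at E3
  simp only [smul_eq_mul, mul_zero, zero_add, mul_one, dotProduct_zero, add_zero] at E3
  exact hω (mul_left_cancel₀ hρ (E3.symm.trans (mul_one ρ).symm))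

theorem exists_wB (h : Pair1 P P' T) (hA : P'.Z ≤ P.A) : ∃ w ∈ P.B, w ∉ T := by
  by_contra! e
  obtain ⟨y, hy, h1⟩ := P'.ty_exists_Z
  exact h1 (h.p.eq_one ⟨hA hy, cent_B (h.q hy).1 fun u hu => (h.p.comm' hy (e u hu)).symm⟩ hy)

/-- `y` and `z y` are conjugate under `Q` -/
theorem conj_zy (h : Pair1 P P' T) (hw : w ∈ P.Q) (hT : w ∉ T) (hy : y ∈ P'.Z) (h1 : y ≠ 1)
    (hz : z ∈ P.Z) : ∃ u ∈ P.W w, u * y * u⁻¹ = z * y := by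
  obtain ⟨u, hu, e⟩ := onto_Z (h.q hy).1 hw (comm_Q hw (h.q hy))
    (fun e => hT (h.p.memC hy h1 hw.1 (commutatorElement_eq_one_iff_mul_comm.1 e))) hz
  exact ⟨u, hu, by rw [← e, commutatorElement_def, inv_mul_cancel_right]⟩

theorem exists_move (h : Pair1 P P' T) : ∃ g ∈ P.Q ⊔ P'.Q, Tech.cj g P.Z = P.Z ∧
    ∃ z ∈ P.Z, z ≠ 1 ∧ g * z * g⁻¹ ≠ z := by
  obtain ⟨y, hy, h1⟩ := P'.ty_exists_Z
  obtain ⟨w, hw, hT⟩ := h.exists_w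
  obtain ⟨w', hw', hT'⟩ := h.symm.exists_w
  have key : ∀ z ∈ P.Z, z ≠ 1 → ∃ g ∈ P.Q ⊔ P'.Q, g * z * g⁻¹ = y := fun z hz hz1 => by
    obtain ⟨u, hu, e⟩ := h.conj_zy hw hT hy h1 hz
    obtain ⟨u', hu', e'⟩ := h.symm.conj_zy hw' hT' hz hz1 hy
    refine ⟨u⁻¹ * u', mul_mem (inv_mem (mem_sup_left hu.1)) (mem_sup_right hu'.1), ?_⟩
    calc _ = u⁻¹ * (u' * z * u'⁻¹) * u := by group
      _ = u⁻¹ * (u * y * u⁻¹) * u := by rw [e, e', ty_comm_Z hz (h.q hy).1]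
      _ = y := by group
  obtain ⟨z₁, hz₁, z₂, hz₂, n₁, n₂, hne⟩ := P.exists_two_Z
  obtain ⟨g₁, hg₁, e₁⟩ := key z₁ hz₁ n₁
  obtain ⟨g₂, hg₂, e₂⟩ := key z₂ hz₂ n₂
  have hg := mul_mem (inv_mem hg₂) hg₁
  have e : g₂⁻¹ * g₁ * z₁ * (g₂⁻¹ * g₁)⁻¹ = z₂ :=
    calc _ = g₂⁻¹ * (g₁ * z₁ * g₁⁻¹) * g₂ := by group
      _ = _ := by rw [e₁, ← e₂]; group
  refine ⟨_, hg, ?_, z₁, hz₁, n₁, by rw [e]; exact hne.symm⟩
  rw [← cj_Z]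
  refine Z_eq (P.cj_cj' _) ?_ fun k => n₂ (mem_bot.1 (k ▸ mem_inf.2 ⟨hz₂, ?_⟩))
  · rw [cj_Z]
    exact cj_le_iff.2 fun x hx => P.S_cZ (h.W_le
      (conj_mem_of_mem_normalizer (h.H_nW hg) (mem_sup_left hx))).1.1
  · rw [cj_Z, ← e]; exact conj_mem_cj.2 hz₁

theorem A_le (h : Pair1 P P' T) (hA : P'.Z ≤ P.A) : P.A ≤ P'.Q := fun a ha => by
  have hAT : P.A ≤ T := fun u hu => h.p.mem_T hu.1.1 (mem_C_iff.2 fun x hx => commA (hA hx) hu)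
  have hWA : P.Z ⊔ P'.Z ≤ P.A := sup_le P.Z_le_A hA
  obtain ⟨w, hw, hT⟩ := h.exists_wB hA
  obtain ⟨r, hr, d, hd, e⟩ := h.decomp hw.1 hT ha.1 (hAT ha)
  have hb : ⁅r, w⁆ ∈ P.B := comm_mem_r (P.S_nB (h.p.le hr)) hw
  have hbT : ⁅r, w⁆ ∈ T := comm_mem_l hr (h.nT hw.1)
  generalize ⁅r, w⁆ = b at e hb hbT
  by_cases hbZ : b ∈ P.Z
  · rw [e]; exact mul_mem (h.q' hbZ) hd.2
  exfalso
  obtain ⟨g, hg, hgZ, z, hz, hz1, hne⟩ := h.exists_move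
  have gT : ∀ x ∈ T, g * x * g⁻¹ ∈ P.S := fun x hx =>
    h.p.le (conj_mem_of_mem_normalizer (h.H_nT hg) hx)
  have gA : ∀ x ∈ P.A, g * x * g⁻¹ ∈ P.A := fun x hx => ty_conjA (Cj.refl P) hgZ hx (gT x (hAT hx))
  have gB : ∀ x ∈ P.B, x ∈ T → g * x * g⁻¹ ∈ P.B := fun x hx hxT =>
    ty_conjB (Cj.refl P) hgZ hx (gT x hxT)
  -- `g` fixes `b` modulo `A`
  have e1 : P.b (g * b * g⁻¹) = P.b b := by
    have hx := hWA (h.H_fix hg hd)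
    have k1 : P.b b + P.b d = 0 := by rw [← b_mulQ hb.1 hd.1.1, ← e, ha.2]
    have k2 := (gA a ha).2
    rw [show g * a * g⁻¹ = g * b * g⁻¹ * (g * d * g⁻¹ * d⁻¹ * d) by rw [e]; group,
      b_mulQ (gB b hb hbT).1 (mul_mem hx.1 hd.1).1, b_mulQ hx.1 hd.1.1, hx.2, zero_add] at k2
    exact add_right_cancel (k2.trans k1.symm)
  obtain ⟨u, hu, hub⟩ : ∃ u ∈ P.A, u * b ≠ b * u := by
    by_contra! k
    exact hbZ ⟨cent_A hb.1.1 k, hb⟩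
  obtain ⟨a', ha', ez⟩ := onto_Z hb.1.1 hu.1 (comm_Q hu.1 hb.1)
    (fun k => hub (commutatorElement_eq_one_iff_mul_comm.1 k)) hz
  have ha' := W_le_A hu ha'
  obtain ⟨r', hr', d', hd', e'⟩ := h.decomp hw.1 hT ha'.1 (hAT ha')
  have hb' : ⁅r', w⁆ ∈ P.B := comm_mem_r (P.S_nB (h.p.le hr')) hw
  have hbT' : ⁅r', w⁆ ∈ T := comm_mem_l hr' (h.nT hw.1)
  generalize ⁅r', w⁆ = b' at e' hb' hbT'
  have hx := h.H_fix hg hd'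
  have e2 : P.a (g * a' * g⁻¹) = P.a (g * d' * g⁻¹ * d'⁻¹) + P.a a' := by
    have k1 : P.a a' = P.a d' := by rw [e', a_mulQ hb'.1.1 hd'.1, hb'.2, zero_add]
    rw [show g * a' * g⁻¹ = g * b' * g⁻¹ * (g * d' * g⁻¹ * d'⁻¹ * d') by rw [e']; group,
      a_mulQ (gB b' hb' hbT').1.1 (mul_mem (hWA hx).1 hd'.1), (gB b' hb' hbT').2, zero_add,
      a_mulQ (hWA hx).1.1 hd'.1, k1]
  have e3 := (ty_comm_iff (hWA hx).1 hb.1).1 (h.commW hx hbT)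
  rw [(hWA hx).2, dotProduct_zero, add_zero] at e3
  refine hne (ty_Z_ext (conj_mem_of_mem_normalizer (mem_normalizer_iff_cj.2 hgZ) hz) hz ?_)
  rw [← ez, conj_comm, ty_c_comm (gA a' ha').1 (gB b hb hbT).1, ty_c_comm ha'.1 hb.1, e1, e2,
    (gA a' ha').2, ha'.2, add_dotProduct, e3]
  simp

theorem tyA (h : Pair1 P P' T) (hA : P'.Z ≤ P.A) : TyA P P' := by
  have hle : P.A ≤ P.Q ⊓ P'.Q := le_inf P.A_le_Q (h.A_le hA)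
  have hinf : P.Q ⊓ P'.Q = P.A := le_antisymm (fun x hx => cent_A hx.1.1 fun u hu =>
    commutatorElement_eq_one_iff_mul_comm.1
      (h.p.eq_one (comm_Q hu.1 hx.1) (comm_Q (hle hu).2 hx.2))) hle
  obtain ⟨w, hw, hT⟩ := h.exists_wB hA
  have heq : P'.A = P.A := by
    obtain ⟨w', hw', hT'⟩ := h.symm.exists_w
    obtain ⟨l, hl, -, hZ⟩ := h.exists_l hw.1 hT hw' hT'
    have hlD := h.H_nD (Ty.closure_pair_le (mem_sup_left hw.1) (mem_sup_right hw') hl)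
    rw [hinf] at hlD
    refine (ty_eq_A fun a ha => ?_).symm
    have k := conj_mem_of_mem_normalizer hlD ha
    have e : l⁻¹ * (l * a * l⁻¹) * l⁻¹⁻¹ = a := by group
    rw [← e]
    exact ty_conjA h.p.cj.symm (by rw [← hZ, cj_inv_cj]) k (e.symm ▸ (hle ha).2.1)
  refine ⟨hA, heq, hinf, fun y hy s hs => ?_, fun y hy h1 x hx => ?_⟩
  · by_cases h1 : y = 1
    · rw [h1, commutatorElement_one_left]; exact one_mem _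
    obtain ⟨v, hv, hvZ, hf⟩ := exists_fix (lt_of_le_of_ne P.Z_le_A fun e =>
      h.p.ne (ty_eq_Z (e ▸ hA))) P.A_le_S P.S_nA
    obtain ⟨z, hz, hz1⟩ := P.ty_exists_Z
    have hW : v ∈ P'.W z := cent_cent (h.q' hz) (hle hv).2 fun u hu e =>
      (commutatorElement_eq_one_iff_mul_comm.1 (h.p.eq_one
        (hf u (h.p.le (h.p.symm.memC hz hz1 hu.1 e))) (comm_Q (hle hv).2 hu))).symm
    rw [h.p.symm.W_sup h.q' hz hz1, sup_comm, ← h.p.W_sup h.q hy h1] at hW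
    exact comm_W' hs hv.1 (W_symm (h.q hy) hW hvZ) (hf s hs)
  · rw [h.p.W_sup h.q hy h1, h.p.mem_ZZ] at hx
    obtain ⟨z, hz, y₁, hy₁, rfl⟩ := hx
    by_cases k : y₁ = 1
    · exact Or.inl (by rwa [k, mul_one])
    obtain ⟨u, hu, e⟩ := h.conj_zy hw.1 hT hy₁ k (inv_mem hz)
    refine Or.inr ⟨u, W_le_B hw hu, ?_⟩
    rwa [← mul_assoc, ← ty_comm_Z hz hu.1.1, mul_assoc z, mul_assoc z, e, mul_inv_cancel_left]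

end Pair1

theorem Pair.ty1 (h : Pair P P' T) (h1 : P'.Z ⊓ P.Q ≠ ⊥) : TyA P P' ∨ TyA P.dual P'.dual := by
  have h' : Pair1 P P' T := ⟨h, (h.le_Q h1).1, (h.le_Q h1).2⟩
  exact h'.le_or.imp h'.tyA fun k => h'.dual.tyA (by rwa [dual_Z, dual_A])

end Fr

end CfsgLib.LnS
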