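import Cfsg.Agent.Lib.LnS.Orb

/-! Commuting conjugates of `Z`: the second type (plans/SYL2.md). -/

set_option autoImplicit false
set_option linter.unusedSectionVars false

namespace CfsgLib.LnS
open Subgroup Matrix Cfsg CfsgLib.Tech CfsgLib.PComp CfsgLib.LnS.Ty
open scoped commutatorElement CfsgLib.BG

namespace Fr

universe u
variable {G : Type u} [Group G] [Finite G] {F : Type*} [Field F] {m : ℕ} {P P' P'' : Fr G F m}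
  {s t u v w x y z n : G} {R T U X H M : Subgroup G}

theorem Cj.of_dual (h : P.dual.Cj P') : ∃ P₀, P.Cj P₀ ∧ P' = P₀.dual := by
  obtain ⟨g, rfl⟩ := h
  exact ⟨_, P.cj_cj' g, (P.dual_cj g).symm⟩

theorem t2_infB (hc : P.Cj P') (h : P'.Z ≤ P.B) : P.B ⊓ P'.S ≤ P'.B := by
  simpa only [dual_A, dual_S] using inf_A hc.dual (by rwa [dual_Z, dual_A])

theorem t2_AT (hc : P.Cj P') (h : P'.Z ≤ P.A) (hx : x ∈ P.S) (hx' : x ∈ P'.S) :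
    x ∈ P'.A ↔ x ∈ P.A := by
  refine ⟨fun k => ?_, fun k => inf_A hc h (mem_inf.2 ⟨k, hx'⟩)⟩
  obtain ⟨P₀, c₀, eA, eZ, hS⟩ := exists_fr_A hc h (ty_two (zpowers_le.2 hx))
    (zpowers_le.2 (mem_inf.2 ⟨P.S_nA hx, P'.S_cZ hx'⟩))
  exact eA ▸ sc_A (c₀.symm.trans hc) eZ.symm (mem_inf.2 ⟨k, hS (mem_zpowers x)⟩)

theorem t2_BT (hc : P.Cj P') (h : P'.Z ≤ P.B) (hx : x ∈ P.S) (hx' : x ∈ P'.S) :
    x ∈ P'.B ↔ x ∈ P.B := by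
  simpa only [dual_A] using t2_AT hc.dual (by rwa [dual_Z, dual_A]) hx hx'

theorem t2_frB (hc : P.Cj P') (h : P'.Z ≤ P.B) (h2 : IsPGroup 2 R)
    (hR : R ≤ 𝒩(P.B) ⊓ 𝒞(P'.Z)) : ∃ P'', P.Cj P'' ∧ P''.B = P.B ∧ P''.Z = P'.Z ∧ R ≤ P''.S := by
  obtain ⟨P₁, c₁, e1, e2, e3⟩ := exists_fr_A hc.dual (by rwa [dual_Z, dual_A]) h2
    (by rwa [dual_Z, dual_A])
  obtain ⟨P₀, c₀, rfl⟩ := c₁.of_dual
  exact ⟨P₀, c₀, by simpa only [dual_A] using e1, by simpa only [dual_Z] using e2, e3⟩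

theorem t2_om {l w' : G} (hx : x ∈ 𝒞(T)) (hl : l ∈ 𝒩(T)) (hw : w ∈ 𝒩(T))
    (e : l * w' * l⁻¹ * w⁻¹ ∈ T) : l * ⁅x, w'⁆ * l⁻¹ = ⁅l * x * l⁻¹, w⁆ := by
  have hx' := conj_mem_of_mem_normalizer (N_le_NC _ hl) hx
  rw [conj_comm, ← inv_mul_cancel_right (l * w' * l⁻¹) w, comm_mul_of (mem_C_iff.1 hx' _ e).symm,
    conj_eq_of (mem_C_iff.1 (comm_mem_l hx' (N_le_NC _ hw)) _ e).symm]

theorem t2_cj_le {K : Subgroup G} (h : X ≤ K) (k : ∀ x ∈ X, ⁅w, x⁆ ∈ K) : Tech.cj w X ≤ K :=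
  cj_le_iff.2 fun x hx => by
    have := mul_mem (k x hx) (h hx)
    rwa [commutatorElement_def, inv_mul_cancel_right] at this

/-- conclusion of `Pair.std` -/
def Std (P P' : Fr G F m) (T : Subgroup G) : Prop :=
  ∃ P'', P.Cj P'' ∧ T ≤ P''.S ∧ P''.Z ≤ P.A ⊓ P'.B

/-- induction hypothesis -/
def IH (F : Type*) [Field F] (m : ℕ) (T : Subgroup G) : Prop :=
  ∀ T₁, T < T₁ → ∀ P P' : Fr G F m, Pair P P' T₁ → P'.Z ⊓ P.Q = ⊥ → Std P P' T₁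

namespace Pair

theorem conj (h : Pair P P' T) (g : G) : Pair (P.cj g) (P'.cj g) (Tech.cj g T) :=
  ⟨((P.cj_cj' g).symm.trans h.cj).trans (P'.cj_cj' g),
    by rw [cj_Z, cj_Z]; exact fun e => h.ne (cj_injective g e),
    by rw [cj_Z, cj_Z, ← cj_centralizer, ← cj_centralizer, ← cj_inf]; exact h.syl.cj g,
    cj_mono g h.le, cj_mono g h.le', by rw [cj_Z]; exact cj_mono g h.Z_le,
    by rw [cj_Z]; exact cj_mono g h.Z_le'⟩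

theorem q_symm (h : Pair P P' T) (q : P'.Z ⊓ P.Q = ⊥) : P.Z ⊓ P'.Q = ⊥ := by
  by_contra e
  exact ty_ne_bot (h.symm.le_Q e).2 q

theorem Z_le_T (h : Pair P P' T) (hT : T ≤ 𝒞(P''.Z)) : P''.Z ≤ T :=
  have k := le_centralizer_iff.1 hT
  h.syl.le_of_normalizes (ty_two P''.Z_le_S) (le_inf
    (le_centralizer_iff.1 (h.Z_le.trans hT)) (le_centralizer_iff.1 (h.Z_le'.trans hT)))
    (k.trans (C_le_N _))

theorem exists_wA (h : Pair P P' T) (q : P'.Z ⊓ P.Q = ⊥) : ∃ w ∈ P.A, w ∉ T ∧ w ∈ 𝒩(T) :=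
  exists_norm P.two_S P.A_le_S h.le (h.le.trans P.S_nA) fun k => ty_ne_bot
    (fun _ hy => P.A_le_Q (cent_A (h.le (h.Z_le' hy)) fun _ hu => (h.comm' hy (k hu)).symm)) q

theorem F1 {c : G} (h : Pair P P' T) (hc : c ∈ 𝒩(T)) (h2 : c * c ∈ T) (hA : c ∈ 𝒩(P.A ⊓ T)) :
    ∃ P₁, P.Cj P₁ ∧ P₁.Z ≤ P.A ∧ T ⊔ zpowers c ≤ 𝒞(P₁.Z) := by
  obtain ⟨x, hxU, hxC, h1, hxc⟩ : ∃ x ∈ P.UA, x ∈ 𝒞(T) ∧ x ≠ 1 ∧ c * x = x * c := by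
    obtain ⟨z, hz, h1⟩ := P.ty_exists_Z
    have hzC : z ∈ 𝒞(T) := le_centralizer_iff.1 h.T_c hz
    by_cases e : c * z = z * c
    · exact ⟨z, P.Z_le_UA hz, hzC, h1, e⟩
    have hA' := (mem_inf.1 (conj_mem_of_mem_normalizer hA (mem_inf.2 ⟨P.Z_le_A hz, h.Z_le hz⟩))).1
    refine ⟨z * (c * z * c⁻¹), mul_mem (P.Z_le_UA hz) (mem_UA.2 ⟨hA', Or.inr (conj_mem_D c
      (mem_D.2 ⟨h1, P, Cj.refl P, hz⟩))⟩), mul_mem hzC (conj_mem_of_mem_normalizer (N_le_NC _ hc) hzC),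
      fun k => e ?_, ?_⟩
    · have := (eq_inv_of_mul_eq_one_right k).trans (inv_eq_of_mul_eq_one_left (ty_sqZ hz))
      rw [← mul_inv_eq_iff_eq_mul, this]
    · calc _ = c * z * c⁻¹ * (c * c * z * (c * c)⁻¹) * c := by group
        _ = _ := by rw [conj_eq_of (mem_C_iff.1 hzC _ h2).symm, commA hA' (P.Z_le_A hz)]
  obtain ⟨hxA, hxD⟩ := mem_UA.1 hxU
  obtain ⟨P₁, c₁, eA, x1⟩ := orb_fr (hxD.resolve_left h1) hxA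
  have hle : P₁.Z ≤ P.A := eA ▸ P₁.Z_le_A
  have hT : T ≤ 𝒞(P₁.Z) := fun t ht =>
    ti P.two_S (hle.trans P.A_le_S) x1 h1 (h.le ht) (mem_C_iff.1 hxC t ht)
  exact ⟨P₁, c₁, hle, sup_le hT (zpowers_le.2 (ti (Ty.two_sup h.two hc h2)
    ((h.Z_le_T hT).trans le_sup_left) x1 h1 (mem_sup_right (mem_zpowers c)) hxc))⟩

theorem X1 {P₂ : Fr G F m} (h : Pair P P' T) (hw : w ∈ P.S) (hT : w ∉ T) (c₂ : P.Cj P₂)
    (hS : T ≤ P₂.S) (hwc : w ∈ 𝒞(P₂.Z)) (hne : P₂.Z ≠ P.Z) : ∃ P₁ P₃ T₁, P.Cj P₁ ∧ P₂.Cj P₃ ∧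
      P₁.Z = P.Z ∧ P₃.Z = P₂.Z ∧ T < T₁ ∧ Pair P₁ P₃ T₁ := by
  have hR : T ⊔ zpowers w ≤ P.S := sup_le h.le (zpowers_le.2 hw)
  obtain ⟨P₁, P₃, T₁, c₁, c₃, e₁, e₃, hT₁, hp⟩ := orb_pair c₂ hne
    ((h.Z_le_T (hS.trans P₂.S_cZ)).trans h.T_c) (ty_two hR) (le_inf (hR.trans P.S_cZ)
      (sup_le (hS.trans P₂.S_cZ) (zpowers_le.2 hwc)))
  exact ⟨P₁, P₃, T₁, c₁, c₃, e₁, e₃, lt_of_le_of_ne (le_sup_left.trans hT₁) fun e =>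
    hT (e ▸ hT₁ (mem_sup_right (mem_zpowers w))), hp⟩

theorem Y1 (h : Pair P P' T) (ih : P'.Z ⊓ P.Q = ⊥ → Std P P' T) :
    P'.A = P.A ∨ P.A ⊓ P'.A = ⊥ := by
  by_cases q : P'.Z ⊓ P.Q = ⊥
  · obtain ⟨P₄, c₄, hS, hZ⟩ := ih q
    obtain ⟨P₅, c₅, eA, eZ, hS'⟩ := exists_fr_A c₄ (hZ.trans inf_le_left) h.two
      (le_inf (h.le.trans P.S_nA) (hS.trans P₄.S_cZ))
    have hB : P'.Z ≤ P₅.B := (le_inf P'.Z_le_B (h.Z_le'.trans hS')).trans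
      (t2_infB (h.cj.symm.trans c₅) (eZ ▸ hZ.trans inf_le_right))
    refine Or.inr (eA ▸ inf_B (c₅.symm.trans h.cj) hB fun e => ty_ne_bot ?_ q)
    rw [e, eZ]
    exact (hZ.trans inf_le_left).trans P.A_le_Q
  · refine (h.ty1 q).imp TyA.eq fun k => inf_B h.cj ?_ h.ne
    simpa only [dual_Z, dual_A] using k.le

theorem Y2 (h : Pair P P' T) (ih : P'.Z ⊓ P.Q = ⊥ → Std P P' T) :
    ∃ P₆, P.Cj P₆ ∧ P.A ⊓ P'.B ⊓ T ≤ P₆.Z := by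
  by_cases q : P'.Z ⊓ P.Q = ⊥
  · obtain ⟨P₄, c₄, hS, hZ⟩ := ih q
    exact ⟨P₄, c₄, fun x hx => ⟨inf_A c₄ (hZ.trans inf_le_left) (mem_inf.2 ⟨hx.1.1, hS hx.2⟩),
      t2_infB (h.cj.symm.trans c₄) (hZ.trans inf_le_right) (mem_inf.2 ⟨hx.1.2, hS hx.2⟩)⟩⟩
  · rcases h.ty1 q with k | k
    · exact ⟨P', h.cj, fun x hx => ⟨k.eq ▸ hx.1.1, hx.1.2⟩⟩
    · have e := k.eq
      rw [dual_A, dual_A] at e
      exact ⟨P, Cj.refl P, fun x hx => ⟨hx.1.1, e ▸ hx.1.2⟩⟩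

theorem comm_ne (h : Pair P P' T) (hw : w ∈ P.S) (hT : w ∉ T) (hy : y ∈ P'.Z) (h1 : y ≠ 1) :
    ⁅y, w⁆ ≠ 1 := fun e => hT (h.memC hy h1 hw (commutatorElement_eq_one_iff_mul_comm.1 e).symm)

theorem comm_AT (h : Pair P P' T) (hw : w ∈ P.A) (hn : w ∈ 𝒩(T)) (hx : x ∈ T) :
    ⁅x, w⁆ ∈ P.A ⊓ T := mem_inf.2 ⟨comm_mem_r (P.S_nA (h.le hx)) hw, comm_mem_l hx hn⟩

theorem caseb {c : G} (h : Pair P P' T) (ih : IH F m T) (hw : w ∈ P.A) (hT : w ∉ T)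
    (hn : w ∈ 𝒩(T)) (hc : c ∈ 𝒩(T)) (e : c * w * c⁻¹ * w⁻¹ ∈ T) : c ∈ 𝒩(P.A ⊓ T) := by
  have hS : T ≤ (P.cj c).S := by rw [cj_S, ← cj_of_N hc]; exact cj_mono c h.le
  have fin : (∀ x ∈ T, x ∈ (P.cj c).A → x ∈ P.A) → c ∈ 𝒩(P.A ⊓ T) := fun k =>
    mem_normalizer_of_forall fun x hx =>
      have := conj_mem_of_mem_normalizer hc hx.2
      mem_inf.2 ⟨k _ this (by rw [cj_A]; exact conj_mem_cj.2 hx.1), this⟩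
  by_cases hne : (P.cj c).Z = P.Z
  · exact fin fun x hx k => sc_A (P.cj_cj' c) hne (mem_inf.2 ⟨k, h.le hx⟩)
  have hwc : w ∈ 𝒞((P.cj c).Z) := (P.cj c).S_cZ (by
    rw [cj_S, mem_cj]
    have := mul_mem (h.le (conj_mem_of_mem_normalizer' hc (inv_mem e))) hw.1.1
    convert this using 1; group)
  obtain ⟨P₁, P₃, T₁, c₁, c₃, e₁, e₃, hlt, hp⟩ := h.X1 hw.1.1 hT (P.cj_cj' c) hS hwc hne
  have a1 : ∀ x ∈ T, x ∈ P₁.A ↔ x ∈ P.A := fun x hx =>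
    t2_AT c₁ (e₁ ▸ P.Z_le_A) (h.le hx) (hp.le (hlt.le hx))
  have a3 : ∀ x ∈ T, x ∈ P₃.A ↔ x ∈ (P.cj c).A := fun x hx =>
    t2_AT c₃ (e₃ ▸ Z_le_A _) (hS hx) (hp.le' (hlt.le hx))
  rcases hp.Y1 (ih T₁ hlt _ _ hp) with k | k
  · exact fin fun x hx k' => (a1 x hx).1 (k ▸ (a3 x hx).2 k')
  · exfalso
    obtain ⟨y, hy, h1⟩ := P'.ty_exists_Z
    have hyT := h.Z_le' hy
    have m1 := h.comm_AT hw hn hyT
    have m2 := h.comm_AT hw hn (conj_mem_of_mem_normalizer hc hyT)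
    rw [← t2_om (le_centralizer_iff.1 h.T_c' hy) hc hn e] at m2
    have m3 : c * ⁅y, w⁆ * c⁻¹ ∈ P₁.A ⊓ P₃.A := mem_inf.2 ⟨(a1 _ m2.2).2 m2.1,
      (a3 _ m2.2).2 (by rw [cj_A]; exact conj_mem_cj.2 m1.1)⟩
    rw [k, mem_bot, conj_eq_one_iff] at m3
    exact h.comm_ne hw.1.1 hT hy h1 m3

theorem casea {l w' : G} (h : Pair P P' T) (ih : IH F m T) (hw : w ∈ P.A) (hT : w ∉ T)
    (hn : w ∈ 𝒩(T)) (hw' : w' ∈ P'.B) (hl : l ∈ 𝒩(T)) (e : l * w' * l⁻¹ * w⁻¹ ∈ T) :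
    ∃ P₆, P.Cj P₆ ∧ (∀ x ∈ T, x ∈ 𝒞(T) → ⁅x, w⁆ ∈ P₆.Z) ∧ ∀ z ∈ P₆.Z, ∃ y ∈ P'.Z, ⁅y, w⁆ = z := by
  have c₂ := h.cj.trans (P'.cj_cj' l)
  have hS : T ≤ (P'.cj l).S := by rw [cj_S, ← cj_of_N hl]; exact cj_mono l h.le'
  have hB : ∀ x ∈ T, x ∈ 𝒞(T) → ⁅x, w⁆ ∈ (P'.cj l).B := fun x hx hx' => by
    have := t2_om (conj_mem_of_mem_normalizer' (N_le_NC _ hl) hx') hl hn e
    rw [show l * (l⁻¹ * x * l) * l⁻¹ = x by group] at this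
    rw [← this, cj_B, conj_mem_cj]
    exact comm_mem_r (P'.S_nB (h.le' (conj_mem_of_mem_normalizer' hl hx))) hw'
  obtain ⟨P₆, c₆, k⟩ : ∃ P₆, P.Cj P₆ ∧ ∀ x ∈ T, x ∈ 𝒞(T) → ⁅x, w⁆ ∈ P₆.Z := by
    by_cases hne : (P'.cj l).Z = P.Z
    · exact ⟨P, Cj.refl P, fun x hx hx' => ⟨(h.comm_AT hw hn hx).1, sc_B c₂ hne
        (mem_inf.2 ⟨hB x hx hx', h.le (h.comm_AT hw hn hx).2⟩)⟩⟩
    have hwc : w ∈ 𝒞((P'.cj l).Z) := (P'.cj l).S_cZ (by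
      have := mul_mem (inv_mem (hS e)) (show l * w' * l⁻¹ ∈ (P'.cj l).S from conj_mem_cj.2 hw'.1.1)
      convert this using 1; group)
    obtain ⟨P₁, P₃, T₁, c₁, c₃, e₁, e₃, hlt, hp⟩ := h.X1 hw.1.1 hT c₂ hS hwc hne
    obtain ⟨P₆, c₆, k⟩ := hp.Y2 (ih T₁ hlt _ _ hp)
    refine ⟨P₆, c₁.trans c₆, fun x hx hx' => k ?_⟩
    have m := h.comm_AT hw hn hx
    exact mem_inf.2 ⟨mem_inf.2 ⟨(t2_AT c₁ (e₁ ▸ P.Z_le_A) (h.le m.2) (hp.le (hlt.le m.2))).2 m.1,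
      (t2_BT c₃ (e₃ ▸ Z_le_B _) (hS m.2) (hp.le' (hlt.le m.2))).2 (hB x hx hx')⟩, hlt.le m.2⟩
  refine ⟨P₆, c₆, k, fun z hz => ?_⟩
  let φ : P'.Z → P₆.Z := fun y => ⟨⁅(y : G), w⁆, k _ (h.Z_le' y.2) (le_centralizer_iff.1 h.T_c' y.2)⟩
  have hφ : Function.Injective φ := fun y₁ y₂ e => by
    have e1 : ⁅(y₁ : G), w⁆ = ⁅(y₂ : G), w⁆ := congrArg Subtype.val e
    by_contra hne
    refine h.comm_ne hw.1.1 hT (mul_mem (inv_mem y₂.2) y₁.2)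
      (fun k => hne (Subtype.ext (inv_mul_eq_one.1 k).symm)) ?_
    calc _ = (y₂ : G)⁻¹ * ⁅(y₁ : G), w⁆ * w * y₂ * w⁻¹ := by
          simp only [commutatorElement_def]; group
      _ = 1 := by rw [e1]; simp only [commutatorElement_def]; group
  obtain ⟨y, hy⟩ := (hφ.bijective_of_nat_card_le (by rw [card_Z, card_Z])).2 ⟨z, hz⟩
  exact ⟨y, y.2, congrArg Subtype.val hy⟩

end Pair

theorem Pair.nD3 (_h : Pair P P' T) (hw : w ∈ P.Q) (k : ∀ y ∈ P'.Z, ⁅y, w⁆ ∈ P.Z) :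
    w ∈ 𝒩(P.Q ⊓ P'.Q ⊔ P.Z ⊔ P'.Z) := by
  have hZ : P.Z ≤ P.Q ⊓ P'.Q ⊔ P.Z ⊔ P'.Z := le_sup_right.trans le_sup_left
  refine mem_normalizer_of_cj_le ?_
  rw [cj_sup, cj_sup]
  exact sup_le (sup_le (t2_cj_le (le_sup_left.trans le_sup_left) fun x hx => hZ (comm_Q hw hx.1))
    (t2_cj_le hZ fun x hx => hZ (comm_Q hw (P.Z_le_Q hx))))
    (t2_cj_le le_sup_right fun x hx => hZ (by
      rw [← commutatorElement_inv]; exact inv_mem (k x hx)))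

theorem Pair.final {l w' : G} (h : Pair P P' T) (q : P'.Z ⊓ P.Q = ⊥) (hw : w ∈ P.A)
    (hn : w ∈ 𝒩(T)) (hw' : w' ∈ P'.B) (hT' : w' ∉ T) (hn' : w' ∈ 𝒩(T))
    (hl : l ∈ closure {w, w'}) (e : l * w' * l⁻¹ * w⁻¹ ∈ T) (hZ : Tech.cj l P'.Z = P.Z)
    (k : ∀ y ∈ P'.Z, ⁅y, w⁆ ∈ P.Z) (k' : ∀ z ∈ P.Z, ⁅z, w'⁆ ∈ P'.Z) : False := by
  have q' := h.q_symm q
  have hlT : l ∈ 𝒩(T) := Ty.closure_pair_le hn hn' hl
  have hDT : P.Q ⊓ P'.Q ≤ T := fun x hx => h.inf_le hx.1.1 hx.2.1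
  have nD : T ≤ 𝒩(P.Q ⊓ P'.Q) := fun t ht => N_inf (P.S_nQ (h.le ht)) (P'.S_nQ (h.le' ht))
  have n1 := h.nD3 hw.1 k
  have n2 : w' ∈ 𝒩(P.Q ⊓ P'.Q ⊔ P.Z ⊔ P'.Z) := by
    have := h.symm.nD3 hw'.1 k'
    rwa [inf_comm, sup_right_comm] at this
  have n3 : T ≤ 𝒩(P.Q ⊓ P'.Q ⊔ P.Z ⊔ P'.Z) := fun t ht =>
    N_sup (N_sup (nD ht) (P.ty_S_nZ (h.le ht))) (P'.ty_S_nZ (h.le' ht))
  have h1 : ∀ r ∈ P'.Q ⊓ T, l * r * l⁻¹ ∈ P.Q ⊓ T := fun r hr =>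
    have := conj_mem_of_mem_normalizer hlT hr.2
    mem_inf.2 ⟨ty_conjQ h.cj hZ hr.1 (h.le this), this⟩
  have hc : Tech.cj l (P'.Q ⊓ T) = P.Q ⊓ T := le_antisymm (cj_le_iff.2 h1) (le_cj_iff.2 fun r hr => by
    have := conj_mem_of_mem_normalizer (inv_mem hlT) hr.2
    have := mem_inf.2 ⟨ty_conjQ h.cj.symm (by rw [← hZ, cj_inv_cj]) hr.1 (h.le' this), this⟩
    rwa [inv_inv] at this)
  have hwS : l * w' * l⁻¹ ∈ P.S := by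
    have := mul_mem (h.le e) hw.1.1
    rwa [inv_mul_cancel_right] at this
  have hwB := ty_conjB h.cj hZ hw' hwS
  have hle : P.Q ⊓ P'.Q ⊔ P.Z ≤ P.Q ⊓ T :=
    sup_le (le_inf inf_le_left hDT) (le_inf P.Z_le_Q h.Z_le)
  obtain ⟨r, hr, ee⟩ := cnt_onto (X := P'.Q ⊓ T) (Y := P.Q ⊓ T) (D₁ := P.Q ⊓ P'.Q ⊔ P'.Z)
    (D₂ := P.Q ⊓ P'.Q ⊔ P.Z) (fun r => ⁅r, w⁆)
    (fun r hr => mem_inf.2 ⟨(h.comm_AT hw hn hr.2).1.1, (h.comm_AT hw hn hr.2).2⟩)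
    (fun r₁ h₁ r₂ h₂ e => by
      have hρ := mul_mem (inv_mem h₁) h₂
      have e1 : w⁻¹ * (r₁⁻¹ * r₂) * w⁻¹⁻¹ * (r₁⁻¹ * r₂)⁻¹ ∈ P.Q ⊓ P'.Q ⊔ P.Z ⊔ P'.Z := by
        have := conj_mem_of_mem_normalizer' (mul_mem n1 (n3 h₁.2)) (mem_sup_left e)
        convert this using 1
        simp only [commutatorElement_def]; group
      have e2 : w ∈ Fx (P.Q ⊓ P'.Q ⊔ P.Z ⊔ P'.Z) (r₁⁻¹ * r₂) := inv_mem_iff.1 ⟨inv_mem n1, e1⟩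
      have e3 := sup_le_sup_right hle _
        (fix_closure e2.1 n2 e2.2 (mem_sup_right (comm_Q hw'.1 hρ.1)) hl)
      obtain ⟨u, hu, y, hy, e4⟩ := (mem_sup_n fun y hy =>
        N_inf (P.S_nQ (h.le (h.Z_le' hy))) (le_normalizer (h.Z_le' hy))).1 e3
      have e5 : y * (r₁⁻¹ * r₂) ∈ P.Q := by
        have := mul_mem (inv_mem (mem_inf.1 hu).1) (mem_inf.1 (h1 _ hρ)).1
        convert this using 1
        rw [eq_inv_mul_iff_mul_eq, ← mul_assoc, e4]; group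
      have := mul_mem (inv_mem (mem_sup_right (S := P.Q ⊓ P'.Q) hy))
        (mem_sup_left (mem_inf.2 ⟨e5, mul_mem (P'.Z_le_Q hy) (mem_inf.1 hρ).1⟩))
      rwa [inv_mul_cancel_left] at this)
    (relIndex_le (sup_le (le_inf inf_le_right hDT) (le_inf P'.Z_le_Q h.Z_le')) hle
      (by rw [← hc, card_cj]) (by
        rw [card_sup_n (h.Z_le'.trans nD) (eq_bot_iff.2 (q ▸ fun x hx => ⟨hx.2, hx.1.1⟩)),
          card_sup_n (h.Z_le.trans nD) (eq_bot_iff.2 (q' ▸ fun x hx => ⟨hx.2, hx.1.2⟩)),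
          card_Z, card_Z]))
    (mem_inf.2 ⟨mul_mem hwB.1 (inv_mem hw.1), e⟩)
  obtain ⟨y, hy, y1⟩ := P'.ty_exists_Z
  have key := perp_B (h.le (h.Z_le' hy)) (ty_sqZ hy) hwB fun u hu eu => by
    have huT := h.memC hy y1 hu.1.1 eu
    have hA : P.A ≤ 𝒞[u] := fun x hx => mem_centralizer_singleton_iff.2 (commA hx hu)
    have hD : P.Q ⊓ P'.Q ⊔ P.Z ≤ 𝒞[u] := sup_le (fun d hd => mem_centralizer_singleton_iff.2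
      (commutatorElement_eq_one_iff_mul_comm.1 (mem_bot.1 (q' ▸ mem_inf.2
        ⟨comm_Q hd.1 hu.1, comm_mem_l hd.2 (P'.S_nQ (h.le' huT))⟩)))) (P.Z_le_A.trans hA)
    have := mul_mem (mul_mem (hA (h.comm_AT hw hn hr.2).1) (hD ee)) (hA hw)
    rw [mul_inv_cancel_left, inv_mul_cancel_right] at this
    exact (mem_centralizer_singleton_iff.1 this).symm
  exact hT' ((mem_normalizer_iff.1 hlT w').2 (h.memC hy y1 hwS key))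

/-- a minimal counterexample -/
structure Pair2 (P P' : Fr G F m) (T : Subgroup G) : Prop where
  p : Pair P P' T
  q : P'.Z ⊓ P.Q = ⊥
  ih : IH F m T
  no : ¬ Std P P' T

namespace Pair2

variable {P₁ P₂ : Fr G F m} {T₁ : Subgroup G}

theorem disj (h : Pair2 P P' T) (c₁ : P.Cj P₁) (hA : P₁.Z ≤ P.A) (hB : P₁.Z ≤ P'.B)
    (hT : T ≤ 𝒞(P₁.Z)) : False := by
  obtain ⟨P₀, c₀, e, hS⟩ := P₁.exists_fr' h.p.two hT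
  exact h.no ⟨P₀, c₁.trans c₀, hS, e ▸ le_inf hA hB⟩

theorem G1 (h : Pair2 P P' T) (c₁ : P.Cj P₁) (hp : Pair P₁ P₂ T₁) (hT : T ≤ T₁) (hA : P₁.Z ≤ P.A)
    (hB : P₂.Z ≤ P'.B) : P₂.Z ⊓ P₁.Q = ⊥ ∧ T₁ = T := by
  have c₂ := c₁.trans hp.cj
  have a1 : ∀ x ∈ T, x ∈ P₁.A → x ∈ P.A := fun x hx =>
    (t2_AT c₁ hA (h.p.le hx) (hp.le (hT hx))).1
  have b2 : ∀ x ∈ T, x ∈ P₂.B → x ∈ P'.B := fun x hx =>
    (t2_BT (h.p.cj.symm.trans c₂) hB (h.p.le' hx) (hp.le' (hT hx))).1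
  have q : P₂.Z ⊓ P₁.Q = ⊥ := by
    by_contra q
    rcases hp.ty1 q with k | k
    · exact h.disj c₂ (fun x hx => a1 x (h.p.Z_le_T (hT.trans hp.T_c') hx) (k.le hx)) hB
        (hT.trans hp.T_c')
    · have e := k.eq
      rw [dual_A, dual_A] at e
      exact h.disj c₁ hA (fun x hx => b2 x (h.p.Z_le_T (hT.trans hp.T_c) hx) (e ▸ P₁.Z_le_B hx))
        (hT.trans hp.T_c)
  refine ⟨q, by_contra fun hne => ?_⟩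
  obtain ⟨P₃, c₃, hS, hZ⟩ := h.ih T₁ (lt_of_le_of_ne hT (Ne.symm hne)) _ _ hp q
  have k := (hT.trans hS).trans P₃.S_cZ
  exact h.disj (c₁.trans c₃) (fun x hx => a1 x (h.p.Z_le_T k hx) (hZ hx).1)
    (fun x hx => b2 x (h.p.Z_le_T k hx) (hZ hx).2) k

theorem G2 (h : Pair2 P P' T) (c₁ : P.Cj P₁) (c₂ : P.Cj P₂) (hA : P₁.Z ≤ P.A) (hB : P₂.Z ≤ P'.B)
    (h2 : IsPGroup 2 R) (hT : T ≤ R) (hR : R ≤ 𝒞(P₁.Z) ⊓ 𝒞(P₂.Z)) : R ≤ T := by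
  have t1 := (hT.trans hR).trans inf_le_left
  have t2 := (hT.trans hR).trans inf_le_right
  obtain ⟨P₃, P₄, T₁, c₃, -, e₃, e₄, hT₁, hp⟩ := orb_pair (c₁.symm.trans c₂)
    (fun e => h.disj c₁ hA (e ▸ hB) t1) ((h.p.Z_le_T t2).trans t1) h2 hR
  exact (h.G1 (c₁.trans c₃) hp (hT.trans hT₁) (e₃ ▸ hA) (e₄ ▸ hB)).2 ▸ hT₁

theorem false (h : Pair2 P P' T) : False := by
  have hd := h.p.symm.dual
  obtain ⟨w, hw, hT, hn⟩ := h.p.exists_wA h.q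
  obtain ⟨w', hw', hT', hn'⟩ := hd.exists_wA (by rw [dual_Z, dual_Q]; exact h.p.q_symm h.q)
  have hB : w' ∈ P'.B := by rwa [dual_A] at hw'
  rcases dih hn hn' (sqA hw ▸ one_mem T) (sqA hw' ▸ one_mem T) with
    ⟨l, hl, e⟩ | ⟨c, hc, hcT, h2, e, e'⟩
  · have hlT : l ∈ 𝒩(T) := Ty.closure_pair_le hn hn' hl
    obtain ⟨P₆, c₆, k, o⟩ := h.p.casea h.ih hw hT hn hB hlT e
    have hZ' : ∀ y ∈ P'.Z, y ∈ 𝒞(T) := fun y hy => le_centralizer_iff.1 h.p.T_c' hy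
    have a6 : P₆.Z ≤ P.A := fun z hz => by
      obtain ⟨y, hy, rfl⟩ := o z hz
      exact (h.p.comm_AT hw hn (h.p.Z_le' hy)).1
    have t6 : T ≤ 𝒞(P₆.Z) := le_centralizer_iff.1 fun z hz => by
      obtain ⟨y, hy, rfl⟩ := o z hz
      exact comm_mem_l (hZ' y hy) (N_le_NC _ hn)
    have c₇ := c₆.trans (P₆.cj_cj' l⁻¹)
    have b7 : (P₆.cj l⁻¹).Z ≤ P'.B := by
      rw [cj_Z]
      refine cj_le_iff.2 fun z hz => ?_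
      obtain ⟨y, hy, rfl⟩ := o z hz
      have := t2_om (conj_mem_of_mem_normalizer' (N_le_NC _ hlT) (hZ' y hy)) hlT hn e
      rw [show l * (l⁻¹ * y * l) * l⁻¹ = y by group] at this
      rw [← this, show ∀ a, l⁻¹ * (l * a * l⁻¹) * l⁻¹⁻¹ = a from fun a => by group]
      exact comm_mem_r (P'.S_nB (h.p.le' (conj_mem_of_mem_normalizer' hlT (h.p.Z_le' hy)))) hB
    have t7 : T ≤ 𝒞((P₆.cj l⁻¹).Z) := by
      rw [cj_Z, ← cj_centralizer, ← cj_of_N (inv_mem hlT)]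
      exact cj_mono _ t6
    obtain ⟨P₈, c₈, eA, e₈, s₈⟩ := exists_fr_A c₆ a6 h.p.two (le_inf (h.p.le.trans P.S_nA) t6)
    obtain ⟨P₉, c₉, eB, e₉, s₉⟩ := t2_frB (h.p.cj.symm.trans c₇) b7 h.p.two
      (le_inf (h.p.le'.trans P'.S_nB) t7)
    rw [← e₈] at a6 t6 k
    rw [← e₉] at b7 t7
    have c₉' := h.p.cj.trans c₉
    have hp : Pair P₈ P₉ T := ⟨c₈.symm.trans c₉', fun e => h.disj c₈ a6 (e ▸ b7) t6,
      isSylowIn_of_maximal h.p.two (le_inf t6 t7) fun R h2 h3 h4 => h.G2 c₈ c₉' a6 b7 h2 h3 h4,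
      s₈, s₉, h.p.Z_le_T t6, h.p.Z_le_T t7⟩
    have hZ : Tech.cj l P₉.Z = P₈.Z := by rw [e₉, e₈, cj_Z, cj_cj_inv]
    refine hp.final (h.G1 c₈ hp le_rfl a6 b7).1 (eA ▸ hw) hn (eB ▸ hB) hT' hn' hl e hZ
      (fun y hy => k y (hp.Z_le' hy) (le_centralizer_iff.1 t7 hy)) fun z hz => ?_
    have hzC := le_centralizer_iff.1 t6 hz
    rw [← conj_mem_cj (g := l), hZ, t2_om hzC hlT hn e]
    exact k _ (conj_mem_of_mem_normalizer hlT (hp.Z_le hz))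
      (conj_mem_of_mem_normalizer (N_le_NC _ hlT) hzC)
  · have hcn : c ∈ 𝒩(T) := Ty.closure_pair_le hn hn' hc
    obtain ⟨P₁, c₁, a1, t1⟩ := h.p.F1 hcn h2 (h.p.caseb h.ih hw hT hn hcn e)
    obtain ⟨P₂, c₂, a2, t2⟩ := hd.F1 hcn h2 (hd.caseb h.ih hw' hT' hn' hcn e')
    obtain ⟨P₃, c₃, rfl⟩ := c₂.of_dual
    rw [dual_Z] at a2 t2
    rw [dual_A] at a2
    exact hcT (h.G2 c₁ (h.p.cj.trans c₃) a1 a2 (Ty.two_sup h.p.two hcn h2) le_sup_left (le_inf t1 t2)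
      (mem_sup_right (mem_zpowers c)))

end Pair2

theorem Pair.std (h : Pair P P' T) (h1 : P'.Z ⊓ P.Q = ⊥) :
    ∃ P'', P.Cj P'' ∧ T ≤ P''.S ∧ P''.Z ≤ P.A ⊓ P'.B := by
  induction T using WellFoundedGT.induction generalizing P P' with
  | ind T ih => exact by_contra fun no => Pair2.false ⟨h, h1, fun T₁ hT _ _ => ih T₁ hT, no⟩

theorem std (hc : P.Cj P') (hS : P'.Z ≤ P.S) (h1 : P'.Z ⊓ P.Q = ⊥) :
    ∃ P'', P.Cj P'' ∧ P''.A = P.A ∧ P''.Z ≠ P.Z ∧ P'.Z ≤ P''.B := by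
  have hne : P'.Z ≠ P.Z := fun e => ty_ne_bot (e ▸ P.Z_le_Q) h1
  obtain ⟨c, hc1, c', hc2, T, -, hp⟩ := exists_pair hc hne (hS.trans P.S_cZ) IsPGroup.of_bot bot_le
  have hp' := hp.conj c⁻¹
  rw [cj_cj, inv_mul_cancel, cj_one] at hp'
  generalize Tech.cj c⁻¹ T = T' at hp'
  have eZ : ((P'.cj c').cj c⁻¹).Z = Tech.cj c⁻¹ P'.Z := by rw [cj_Z, ty_cjZ hc2]
  generalize (P'.cj c').cj c⁻¹ = P₂ at hp' eZ
  have hy2 : ∀ y ∈ P'.Z, c⁻¹ * y * c⁻¹⁻¹ ∈ P₂.Z := fun y hy => eZ ▸ conj_mem_cj.2 hy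
  have q : P₂.Z ⊓ P.Q = ⊥ := eq_bot_iff.2 fun x hx => by
    have k1 : c * x * c⁻¹ ∈ P'.Z := by simpa only [eZ, mem_cj, inv_inv] using (mem_inf.1 hx).1
    have k2 := ty_conjQ (Cj.refl P) (cj_of_C hc1) hx.2 (hS k1)
    exact conj_eq_one_iff.1 (mem_bot.1 (h1 ▸ mem_inf.2 ⟨k1, k2⟩))
  obtain ⟨P₃, c₃, s₃, z₃⟩ := hp'.std q
  obtain ⟨P₄, c₄, eA, e₄, s₄⟩ := exists_fr_A c₃ (z₃.trans inf_le_left) hp'.two
    (le_inf (hp'.le.trans P.S_nA) (s₃.trans P₃.S_cZ))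
  rw [← e₄] at z₃
  have hB : P₂.Z ≤ P₄.B := (le_inf P₂.Z_le_B (hp'.Z_le'.trans s₄)).trans
    (t2_infB (hp'.cj.symm.trans c₄) (z₃.trans inf_le_right))
  have hne4 : P₄.Z ≠ P.Z := fun e =>
    ty_ne_bot ((e ▸ z₃.trans inf_le_right).trans P₂.B_le_Q) (hp'.q_symm q)
  obtain ⟨k, hk, -, ek⟩ := ctrl' (P := P) (inv_mem (C_le_N _ hc1))
  have hkA := P.nQ_nA hk
  have c₅ := c₄.trans (P₄.cj_cj' k⁻¹)
  have a5 : (P₄.cj k⁻¹).A = P.A := by rw [cj_A, eA, cj_of_N (inv_mem hkA)]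
  have m5 : ∀ x, x ∈ (P₄.cj k⁻¹).Z ↔ k * x * k⁻¹ ∈ P₄.Z := fun x => by rw [cj_Z, mem_cj, inv_inv]
  have z5 : (P₄.cj k⁻¹).Z ≤ P.A := a5 ▸ Z_le_A _
  have ek' : ∀ y ∈ P'.Z, ∀ x ∈ P.A, k * ⁅x, y⁆ * k⁻¹ = ⁅k * x * k⁻¹, c⁻¹ * y * c⁻¹⁻¹⁆ :=
    fun y hy x hx => ek y (hS hy) (hp'.le (hp'.Z_le' (hy2 y hy))) x hx.1
  obtain ⟨P₆, c₆, a6, e₆, s₆⟩ := exists_fr_A c₅ z5 (ty_two hS) (le_inf (hS.trans P.S_nA)
    fun y hy => mem_C_iff.2 fun x hx => commutatorElement_eq_one_iff_mul_comm.1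
      (conj_eq_one_iff.1 ((ek' y hy x (z5 hx)).trans (commutatorElement_eq_one_iff_mul_comm.2
        (commB ((m5 x).1 hx).2 (hB (hy2 y hy)))))))
  refine ⟨P₆, c₆, a6, fun e => hne4 ?_, ?_⟩
  · rw [← cj_cj_inv k P₄.Z, ← cj_Z, ← e₆, e, cj_of_N (P.nQ_nZ hk)]
  · have hQ : P'.Z ≤ P₆.Q := fun y hy => mem_Q_of_A (s₆ hy) fun u hu => by
      rw [a6] at hu
      rw [e₆, m5, ek' y hy u hu]
      exact comm_Q (P₄.A_le_Q (eA ▸ conj_mem_of_mem_normalizer hkA hu)) (hB (hy2 y hy)).1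
    exact (le_or (c₆.symm.trans hc) s₆ (ty_ne_bot hQ)).resolve_left fun k =>
      ty_ne_bot ((a6 ▸ k).trans P.A_le_Q) h1

end Fr

end CfsgLib.LnS
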